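import Groth.Agent.Sga3.HopfFiniteDescent
import Mathlib

/-!
Convolution rings and base change.
-/

universe u v w x

open TensorProduct WithConv

namespace Groth.Agent.OortTate

variable {R : Type u} [CommRing R] {A : Type v} [CommRing A] [HopfAlgebra R A]

/-- Post-composition with an algebra map, as a ring hom of convolution rings. -/
noncomputable def push {C : Type v} [AddCommGroup C] [Module R C] [Coalgebra R C] {S : Type w} {T : Type x}
    [CommRing S] [Algebra R S] [CommRing T] [Algebra R T] (φ : S →ₐ[R] T) :
    WithConv (C →ₗ[R] S) →+* WithConv (C →ₗ[R] T) where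
  toFun f := toConv (φ.toLinearMap ∘ₗ f.ofConv)
  map_one' := by ext c; simp
  map_mul' f g := by
    apply WithConv.ofConv_injective
    exact LinearMap.algHom_comp_convMul_distrib φ f g
  map_zero' := by ext c; simp
  map_add' f g := by ext c; simp

@[simp] theorem push_apply {C : Type v} [AddCommGroup C] [Module R C] [Coalgebra R C] {S : Type w} {T : Type x}
    [CommRing S] [Algebra R S] [CommRing T] [Algebra R T] (φ : S →ₐ[R] T)
    (f : WithConv (C →ₗ[R] S)) (c : C) : push φ f c = φ (f c) := rfl

theorem powConv_baseChange_apply (S : Type w) [CommRing S] [Algebra R S] (n : ℕ) (b : A) :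
    (toConv (AlgHom.id S (S ⊗[R] A)) ^ n).ofConv ((1 : S) ⊗ₜ[R] b) =
      (1 : S) ⊗ₜ[R] (toConv (AlgHom.id R A) ^ n).ofConv b := by
  induction n generalizing b with
  | zero => simp [Algebra.algebraMap_eq_smul_one, smul_tmul, Algebra.TensorProduct.one_def]
  | succ m ih =>
    rw [pow_succ, pow_succ]
    show (_ * _ : WithConv (S ⊗[R] A →ₐ[S] S ⊗[R] A)) _ =
      (1 : S) ⊗ₜ[R] (_ * _ : WithConv (A →ₐ[R] A)) b
    rw [AlgHom.convMul_apply, AlgHom.convMul_apply, TensorProduct.comul_tmul,
      CommSemiring.comul_apply]
    generalize Coalgebra.comul (R := R) b = z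
    induction z with
    | zero => simp
    | add x y hx hy => simp only [TensorProduct.tmul_add, map_add, hx, hy]
    | tmul x y => simp [ih]

theorem restrict_pow_eq_one (S : Type w) [CommRing S] [Algebra R S] {n : ℕ}
    (h : toConv (AlgHom.id S (S ⊗[R] A)) ^ n = 1) (a : A) :
    (Algebra.TensorProduct.includeRight : A →ₐ[R] S ⊗[R] A)
        ((toConv (AlgHom.id R A) ^ n).ofConv a) =
      (Algebra.TensorProduct.includeRight : A →ₐ[R] S ⊗[R] A)
        ((1 : WithConv (A →ₐ[R] A)).ofConv a) := by
  have h2 := powConv_baseChange_apply (R := R) (A := A) S n a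
  rw [h] at h2
  refine h2.symm.trans ?_
  simp [Algebra.smul_def]

section Res

variable (S : Type w) [CommRing S] [Algebra R S] (B : Type x) [CommRing B] [Algebra R B]
  [Algebra S B] [IsScalarTower R S B]

/-- Restriction of linear maps on the base change, as a ring isomorphism of convolution rings. -/
noncomputable def resEquiv :
    WithConv (S ⊗[R] A →ₗ[S] B) ≃+* WithConv (A →ₗ[R] B) where
  toFun f := toConv ((LinearMap.liftBaseChangeEquiv S).symm f.ofConv)
  invFun g := toConv (LinearMap.liftBaseChangeEquiv S g.ofConv)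
  left_inv f := by simp
  right_inv g := by simp
  map_add' f g := by simp
  map_mul' f g := by
    apply WithConv.ofConv_injective
    ext a
    show (f * g) ((1 : S) ⊗ₜ a) = (_ * _ : WithConv (A →ₗ[R] B)) a
    rw [LinearMap.convMul_apply, LinearMap.convMul_apply, TensorProduct.comul_tmul,
      CommSemiring.comul_apply]
    generalize Coalgebra.comul (R := R) a = z
    induction z with
    | zero => simp
    | add x y hx hy => simp only [TensorProduct.tmul_add, map_add, hx, hy]
    | tmul x y => simp

theorem resEquiv_apply (f : WithConv (S ⊗[R] A →ₗ[S] B)) (a : A) :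
    resEquiv S B f a = f ((1 : S) ⊗ₜ a) := rfl

end Res

theorem free_finrank_baseChange [Module.Finite R A] [Module.Projective R A] {n : ℕ}
    (hrk : ∀ q : PrimeSpectrum R, Module.rankAtStalk A q = n)
    (S : Type w) [CommRing S] [Algebra R S] [IsLocalRing S] :
    Module.Free S (S ⊗[R] A) ∧ Module.finrank S (S ⊗[R] A) = n := by
  have : Module.Free S (S ⊗[R] A) := Module.free_of_flat_of_isLocalRing
  refine ⟨this, ?_⟩
  have h1 : Module.rankAtStalk (S ⊗[R] A) (IsLocalRing.closedPoint S) = n := by
    rw [Module.rankAtStalk_baseChange]; exact hrk _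
  rwa [Module.rankAtStalk_eq_finrank_of_free, Pi.natCast_apply, Nat.cast_id] at h1

end Groth.Agent.OortTate
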