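import Groth.Agent.OortTate.Rank
import Mathlib

/-!
The algebra of a group scheme of prime order as a quotient of the tensor algebra of `I₁`.
-/

universe u

open TensorProduct WithConv

namespace Groth.Agent.OortTate

section Invertible

variable {R : Type u} [CommRing R] {M : Type u} [AddCommGroup M] [Module R M] [Module.Finite R M]
  [Module.Projective R M]

theorem ι_commute (hrk : ∀ q : PrimeSpectrum R, Module.rankAtStalk M q = 1) (x y : M) :
    Commute (TensorAlgebra.ι R x) (TensorAlgebra.ι R y) := by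
  obtain ⟨n, e, φ, hφ⟩ := exists_dual_family (R := R) (M := M)
  show _ * _ = _ * _
  conv_lhs => rw [← hφ x, map_sum, Finset.sum_mul]
  conv_rhs => rw [← hφ y, map_sum, Finset.sum_mul]
  refine Finset.sum_congr rfl fun k _ => ?_
  rw [map_smul, map_smul, smul_mul_assoc, ← mul_smul_comm, ← map_smul,
    smul_comm_of_rank_one hrk (φ k) x y, map_smul, mul_smul_comm, smul_mul_assoc]

theorem tensorAlgebra_mul_comm (hrk : ∀ q : PrimeSpectrum R, Module.rankAtStalk M q = 1)
    (a b : TensorAlgebra R M) : a * b = b * a := by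
  have key : ∀ x : M, ∀ a : TensorAlgebra R M, Commute (TensorAlgebra.ι R x) a := by
    intro x a
    induction a using TensorAlgebra.induction with
    | algebraMap r => exact (Algebra.commutes r _).symm
    | ι y => exact ι_commute hrk x y
    | mul a b ha hb => exact ha.mul_right hb
    | add a b ha hb => exact ha.add_right hb
  induction a using TensorAlgebra.induction with
  | algebraMap r => exact Algebra.commutes r b
  | ι x => exact (key x b).eq
  | mul a c ha hc => rw [mul_assoc, hc, ← mul_assoc, ha, mul_assoc]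
  | add a c ha hc => rw [add_mul, mul_add, ha, hc]

theorem exists_eq_smul_ι_pow (hrk : ∀ q : PrimeSpectrum R, Module.rankAtStalk M q = 1)
    (φ : Module.Dual R M) (y : M) (t : ℕ) {z : TensorAlgebra R M}
    (hz : z ∈ LinearMap.range (TensorAlgebra.ι R (M := M)) ^ t) :
    ∃ c : R, φ y ^ t • z = c • TensorAlgebra.ι R y ^ t := by
  induction t generalizing z with
  | zero =>
    rw [pow_zero, Submodule.mem_one] at hz
    obtain ⟨r, rfl⟩ := hz
    exact ⟨r, by rw [pow_zero, pow_zero, one_smul, Algebra.algebraMap_eq_smul_one]⟩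
  | succ t ih =>
    rw [pow_succ] at hz
    refine Submodule.mul_induction_on hz ?_ ?_
    · rintro a ha _ ⟨x, rfl⟩
      obtain ⟨c, hc⟩ := ih ha
      refine ⟨c * φ x, ?_⟩
      rw [pow_succ, ← smul_mul_smul_comm, hc, ← map_smul, smul_comm_of_rank_one hrk φ y x,
        map_smul, smul_mul_smul_comm, ← pow_succ]
    · rintro a b ⟨c, hc⟩ ⟨d, hd⟩
      exact ⟨c + d, by rw [smul_add, hc, hd, add_smul]⟩

end Invertible

theorem pow_toSubmodule_le {R A : Type*} [CommSemiring R] [Semiring A] [Algebra R A]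
    (S : Subalgebra R A) (n : ℕ) : (Subalgebra.toSubmodule S) ^ n ≤ Subalgebra.toSubmodule S := by
  induction n with
  | zero => rw [pow_zero, Submodule.one_le]; exact one_mem S
  | succ n ih =>
    rw [pow_succ, Submodule.mul_le]
    exact fun a ha b hb => show a * b ∈ S from S.mul_mem (ih ha) hb

section Main

variable {R : Type u} [CommRing R] {A : Type u} [CommRing A] [HopfAlgebra R A]
  [Module.Finite R A] [Module.Projective R A] {p : ℕ} [Fact p.Prime] {u : R}
  {χ : (ZMod p)ˣ →* Rˣ}

local notation "I1" => _root_.OortTate.eigenAug R A p χ 1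

theorem lift_range_pow_mem {t : ℕ} (ht : 1 ≤ t) {z : TensorAlgebra R I1}
    (hz : z ∈ LinearMap.range (TensorAlgebra.ι R (M := I1)) ^ t) :
    TensorAlgebra.lift R (I1).subtype z ∈ _root_.OortTate.eigenAug R A p χ t := by
  refine eigenAug_one_pow_le ht ?_
  have h := Submodule.mem_map_of_mem (f := (TensorAlgebra.lift R (I1).subtype).toLinearMap) hz
  rw [Submodule.map_pow, ← LinearMap.range_comp, TensorAlgebra.ι_comp_lift,
    Submodule.range_subtype] at h
  exact h

theorem tensorAlgebra_presentation (hu : u * ((p - 1 : ℕ) : R) = 1)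
    (hχ : ∀ m : (ZMod p)ˣ, m ≠ 1 → IsUnit ((χ m : R) - 1))
    (hχp : ∀ m : (ZMod p)ˣ,
      ((χ m : Rˣ) : R) - (((m : ZMod p).val : ℕ) : R) ∈ Ideal.span ({(p : R)} : Set R))
    (hrk : ∀ q : PrimeSpectrum R, Module.rankAtStalk A q = p) :
    Function.Surjective (TensorAlgebra.lift R (I1).subtype) ∧
      RingHom.ker (TensorAlgebra.lift R (I1).subtype) =
        Ideal.span {x : TensorAlgebra R I1 |
          ∃ (f : Fin p → I1) (g : I1), (g : A) = ∏ i, (f i : A) ∧
            x = (List.ofFn fun i => TensorAlgebra.ι R (f i)).prod - TensorAlgebra.ι R g} := by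
  have hco := isCocomm_of_rank hrk
  have hp := convPow_rank_eq_one hrk
  have hp2 := (Fact.out : p.Prime).two_le
  have hfp := fun i => eigenAug_finite_projective (χ := χ) hp hu i
  have := (hfp 1).1
  have := (hfp 1).2
  have hr1 := eigenAug_rank_one hu hχ hχp hrk
  set L := TensorAlgebra.lift R (I1).subtype with hL
  set S : Set (TensorAlgebra R I1) := {x : TensorAlgebra R I1 |
          ∃ (f : Fin p → I1) (g : I1), (g : A) = ∏ i, (f i : A) ∧
            x = (List.ofFn fun i => TensorAlgebra.ι R (f i)).prod - TensorAlgebra.ι R g} with hS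
  have hι : ∀ x : I1, L (TensorAlgebra.ι R x) = (x : A) := fun x =>
    TensorAlgebra.lift_ι_apply _ _
  have hSker : ∀ x ∈ S, L x = 0 := by
    rintro _ ⟨f, g, hg, rfl⟩
    rw [map_sub, map_list_prod, List.map_ofFn, List.prod_ofFn, hι, sub_eq_zero, hg]
    exact Finset.prod_congr rfl fun i _ => hι _
  constructor
  · intro a
    have ha : a - Bialgebra.counitAlgHom R A a • (1 : A) ∈
        LinearMap.ker (Bialgebra.counitAlgHom R A).toLinearMap := by
      simp only [LinearMap.mem_ker, AlgHom.toLinearMap_apply, map_sub, map_smul, map_one,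
        smul_eq_mul, mul_one, sub_self]
    rw [← iSup_eigenAug hu hχ hp] at ha
    have hle : (⨆ i : Fin (p - 1), _root_.OortTate.eigenAug R A p χ (i : ℕ)) ≤
        L.range.toSubmodule := by
      refine iSup_le fun i => ?_
      obtain ⟨h1, h2, h3⟩ := rep_spec hp2 (i : ℕ)
      rw [← eigenAug_congr h3, ← eigenAug_one_pow_eq hu hχ hχp hrk h1 h2]
      refine le_trans (pow_le_pow_left' (b := L.range.toSubmodule) ?_ _) ?_
      · exact fun x hx => ⟨TensorAlgebra.ι R ⟨x, hx⟩, hι _⟩
      · exact pow_toSubmodule_le L.range _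
    obtain ⟨z, hz⟩ := hle ha
    exact ⟨z + algebraMap R _ (Bialgebra.counitAlgHom R A a), by
      rw [map_add, AlgHom.commutes, Algebra.algebraMap_eq_smul_one]
      exact eq_sub_iff_add_eq.1 hz⟩
  refine le_antisymm ?_ (Ideal.span_le.2 hSker)
  -- every element is congruent to one of degree `< p`
  let P := fun t : ℕ => LinearMap.range (TensorAlgebra.ι R (M := I1)) ^ t
  let W : Submodule R (TensorAlgebra R I1) :=
    (Ideal.span S).restrictScalars R ⊔ ⨆ t ∈ Finset.range p, P t
  have hPW : ∀ t, t < p → P t ≤ W := fun t ht =>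
    le_sup_of_le_right (le_iSup₂_of_le t (Finset.mem_range.2 ht) le_rfl)
  have hPp : P p ≤ W := by
    simp only [P]
    rw [Submodule.pow_eq_span_pow_set, Submodule.span_le]
    intro z hz
    obtain ⟨f, rfl⟩ := Set.mem_pow.1 hz
    choose v hv using fun i => (f i).2
    have hmem : ∏ i, ((v i : I1) : A) ∈ I1 := by
      have h2 : ∏ i, ((v i : I1) : A) ∈ I1 ^ p := by
        rw [← List.prod_ofFn, Submodule.pow_eq_span_pow_set]
        exact Submodule.subset_span (Set.mem_pow.2 ⟨fun i => ⟨_, (v i).2⟩, rfl⟩)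
      have h3 := eigenAug_one_pow_le (by omega : 1 ≤ p) h2
      rwa [eigenAug_congr (j := 1) ((Nat.modEq_iff_dvd' (by omega)).2 dvd_rfl).symm] at h3
    have e : (List.ofFn fun i => ((f i : TensorAlgebra R I1))).prod =
        ((List.ofFn fun i => TensorAlgebra.ι R (v i)).prod - TensorAlgebra.ι R ⟨_, hmem⟩) +
          TensorAlgebra.ι R ⟨_, hmem⟩ := by simp [hv]
    rw [SetLike.mem_coe, e]
    refine W.add_mem (Submodule.mem_sup_left (Ideal.subset_span ⟨v, _, rfl, rfl⟩))
      (hPW 1 (by omega) ?_)
    simp only [P, pow_one]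
    exact ⟨_, rfl⟩
  have hclosed : ∀ x : I1, ∀ w ∈ W, TensorAlgebra.ι R x * w ∈ W := by
    intro x w hw
    have hle : W ≤ W.comap (LinearMap.mulLeft R (TensorAlgebra.ι R x)) := by
      refine sup_le ?_ (iSup₂_le fun t ht => ?_)
      · intro j hj
        exact Submodule.mem_sup_left (Ideal.mul_mem_left _ _ hj)
      · intro j hj
        have h2 : TensorAlgebra.ι R x * j ∈ P (t + 1) := by
          simp only [P]
          rw [pow_succ']
          exact Submodule.mul_mem_mul ⟨x, rfl⟩ hj
        rcases Nat.lt_or_ge (t + 1) p with h | h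
        · exact hPW _ h h2
        · have : t + 1 = p := le_antisymm (Finset.mem_range.1 ht) h
          exact hPp (this ▸ h2)
    exact hle hw
  have htop : ∀ z : TensorAlgebra R I1, z ∈ W := by
    intro z
    suffices h : ∀ w ∈ W, z * w ∈ W by
      have h1 : (1 : TensorAlgebra R I1) ∈ W := hPW 0 (by omega) (by
        simp only [P, pow_zero]; exact Submodule.mem_one.2 ⟨1, map_one _⟩)
      simpa using h 1 h1
    induction z using TensorAlgebra.induction with
    | algebraMap r => intro w hw; rw [← Algebra.smul_def]; exact W.smul_mem _ hw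
    | ι x => exact hclosed x
    | mul a b ha hb => intro w hw; rw [mul_assoc]; exact ha _ (hb _ hw)
    | add a b ha hb => intro w hw; rw [add_mul]; exact W.add_mem (ha _ hw) (hb _ hw)
  -- injectivity in each degree `< p`
  have hinj : ∀ t, t ≤ p - 1 → ∀ z ∈ P t, L z = 0 → z = 0 := by
    intro t ht z hz hz0
    let ann : Ideal R := LinearMap.ker (LinearMap.toSpanSingleton R _ z)
    suffices h : ann = ⊤ by
      have h1 : (1 : R) ∈ ann := h ▸ Submodule.mem_top
      simpa [ann] using h1
    by_contra hne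
    obtain ⟨J, hJ, hle⟩ := Ideal.exists_le_maximal ann hne
    let K := AlgebraicClosure (FractionRing (R ⧸ J))
    have hJK : J ≤ RingHom.ker (algebraMap R K) := fun a ha => by
      rw [RingHom.mem_ker, IsScalarTower.algebraMap_apply R (R ⧸ J) K, Ideal.Quotient.algebraMap_eq,
        Ideal.Quotient.eq_zero_iff_mem.2 ha, map_zero]
    obtain ⟨y, hy, hyt⟩ := (fibre_data K hu hχ hχp hrk).2
    have hne1 : (1 : K) ⊗ₜ[R] (⟨y, hy⟩ : I1) ≠ 0 := fun h0 => by
      have := congrArg ((I1).subtype.baseChange K) h0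
      rw [map_zero, LinearMap.baseChange_tmul] at this
      exact hyt 1 (by omega) (by rw [pow_one]; exact this)
    obtain ⟨φ, hφ⟩ := exists_dual_apply_notMem hJK hne1
    obtain ⟨c, hc⟩ := exists_eq_smul_ι_pow (hr1 1) φ ⟨y, hy⟩ t hz
    have hc0 : c • y ^ t = 0 := by
      have := congrArg L hc
      rwa [map_smul, map_smul, hz0, smul_zero, map_pow, hι, eq_comm] at this
    obtain ⟨ψ, hψ⟩ := exists_dual_apply_notMem (M := A) (K := K) hJK (z := y ^ t) (by
      have := hyt t ht
      rwa [Algebra.TensorProduct.tmul_pow, one_pow] at this)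
    have h4 : ψ (y ^ t) * c = 0 := by
      have := congrArg ψ hc0
      rwa [map_smul, map_zero, smul_eq_mul, mul_comm] at this
    have h3 : ψ (y ^ t) * φ ⟨y, hy⟩ ^ t ∈ ann := by
      show (ψ (y ^ t) * φ ⟨y, hy⟩ ^ t) • z = 0
      rw [mul_smul, hc, smul_smul, h4, zero_smul]
    rcases (Ideal.IsMaximal.isPrime hJ).mem_or_mem (hle h3) with h5 | h5
    · exact hψ h5
    · exact hφ ((Ideal.IsMaximal.isPrime hJ).mem_of_pow_mem _ h5)
  intro z hz
  obtain ⟨j, hj, s, hs, rfl⟩ := Submodule.mem_sup.1 (htop z)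
  obtain ⟨μ, hμ⟩ := (Submodule.mem_iSup_finset_iff_exists_sum P s).1 hs
  have hj' : j ∈ Ideal.span S := hj
  refine Ideal.add_mem _ hj' ?_
  have hsum : ∑ t ∈ Finset.range p, L (μ t : TensorAlgebra R I1) = 0 := by
    rw [← map_sum, hμ]
    have hker : (j : TensorAlgebra R I1) ∈ RingHom.ker L := (Ideal.span_le (I := RingHom.ker L)).2 hSker hj'
    rw [RingHom.mem_ker] at hz hker
    rwa [map_add, hker, zero_add] at hz
  have hpos : ∀ t, 1 ≤ t → L (μ t : TensorAlgebra R I1) ∈ _root_.OortTate.eigenAug R A p χ t :=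
    fun t ht => lift_range_pow_mem ht (μ t).2
  have hμ0 : L (μ 0 : TensorAlgebra R I1) = 0 := by
    obtain ⟨r, hr⟩ : ∃ r, algebraMap R (TensorAlgebra R I1) r = (μ 0 : TensorAlgebra R I1) :=
      Submodule.mem_one.1 (by simpa [P] using (μ 0).2)
    have h := congrArg (Bialgebra.counitAlgHom R A) hsum
    rw [map_sum, map_zero, Finset.sum_eq_single 0 (fun t _ ht =>
      (mem_eigenAug.1 (hpos t (Nat.pos_of_ne_zero ht))).1)
      (fun h0 => absurd (Finset.mem_range.2 (by omega)) h0), ← hr, AlgHom.commutes,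
      AlgHom.commutes] at h
    rw [← hr, AlgHom.commutes, show r = 0 from h, map_zero]
  rw [← hμ]
  refine Ideal.sum_mem _ fun t ht => ?_
  have : (μ t : TensorAlgebra R I1) = 0 := by
    refine hinj t (by have := Finset.mem_range.1 ht; omega) _ (μ t).2 ?_
    rcases Nat.eq_zero_or_pos t with rfl | htpos
    · exact hμ0
    have h := congrArg (_root_.OortTate.proj R A p u χ t) hsum
    rw [map_sum, map_zero, Finset.sum_eq_single t (fun t' ht'' hne => ?_)
      (fun h0 => absurd ht h0), proj_of_eigen hu (mem_eigenAug.1 (hpos t htpos)).2 rfl] at h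
    · exact h
    · rcases Nat.eq_zero_or_pos t' with rfl | ht'pos
      · rw [hμ0, map_zero]
      refine proj_of_eigen_ne hχ (mem_eigenAug.1 (hpos t' ht'pos)).2 fun hmod => hne ?_
      have h1 := Finset.mem_range.1 ht
      have h2 := Finset.mem_range.1 ht''
      rcases Nat.lt_trichotomy t' t with h3 | h3 | h3
      · exact absurd (Nat.le_of_dvd (by omega) ((Nat.modEq_iff_dvd' h3.le).1 hmod)) (by omega)
      · exact h3
      · exact absurd (Nat.le_of_dvd (by omega) ((Nat.modEq_iff_dvd' h3.le).1 hmod.symm)) (by omega)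
  rw [this]
  exact Ideal.zero_mem _

end Main

end Groth.Agent.OortTate
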