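import Groth.Agent.OortTate.Pairing
import Groth.Agent.OortTate.TensorAlg
import Mathlib

/-!
A group scheme of prime order is determined by `(I₁, a, b)`.
-/

universe u

open TensorProduct WithConv Pointwise

namespace Groth.Agent.OortTate

section Aux

variable {R : Type u} [CommRing R]

theorem rankAtStalk_dual {M : Type u} [AddCommGroup M] [Module R M] [Module.Finite R M]
    [Module.Projective R M] (q : PrimeSpectrum R) :
    Module.rankAtStalk (Module.Dual R M) q = Module.rankAtStalk M q := by
  let K := AlgebraicClosure (FractionRing (R ⧸ q.asIdeal))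
  have hq : (IsLocalRing.closedPoint K).comap (algebraMap R K) = q := by
    apply PrimeSpectrum.ext
    show Ideal.comap (algebraMap R K) (IsLocalRing.maximalIdeal K) = _
    rw [IsLocalRing.maximalIdeal_eq_bot, IsScalarTower.algebraMap_eq R (R ⧸ q.asIdeal) K,
      ← Ideal.comap_comap, ← RingHom.ker_eq_comap_bot,
      (RingHom.injective_iff_ker_eq_bot (algebraMap (R ⧸ q.asIdeal) K)).1 (by
        rw [IsScalarTower.algebraMap_eq (R ⧸ q.asIdeal) (FractionRing (R ⧸ q.asIdeal)) K]
        exact (algebraMap (FractionRing (R ⧸ q.asIdeal)) K).injective.comp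
          (IsFractionRing.injective _ _)),
      ← RingHom.ker_eq_comap_bot, Ideal.Quotient.algebraMap_eq, Ideal.mk_ker]
  obtain ⟨n, x, φ, hφ⟩ := exists_dual_family (R := R) (M := M)
  let T : Module.Dual R M →ₗ[R] Module.Dual K (K ⊗[R] M) :=
    { toFun := fun f => LinearMap.liftBaseChange K ((Algebra.linearMap R K).comp f)
      map_add' := fun f g => by ext m; simp
      map_smul' := fun r f => by ext m; simp [Algebra.smul_def] }
  let e : K ⊗[R] Module.Dual R M ≃ₗ[K] Module.Dual K (K ⊗[R] M) :=
    LinearEquiv.ofLinear (LinearMap.liftBaseChange K T)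
      { toFun := fun g => ∑ k, g ((1 : K) ⊗ₜ x k) ⊗ₜ[R] φ k
        map_add' := fun g h => by simp [TensorProduct.add_tmul, Finset.sum_add_distrib]
        map_smul' := fun r g => by simp [Finset.smul_sum, smul_tmul'] }
      (by
        apply LinearMap.ext; intro g; ext m
        simp only [LinearMap.coe_comp, LinearMap.coe_mk, AddHom.coe_mk, Function.comp_apply,
          map_sum, LinearMap.liftBaseChange_tmul, LinearMap.id_coe, id_eq]
        simp only [TensorProduct.AlgebraTensorModule.curry_apply, TensorProduct.curry_apply,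
          LinearMap.coe_restrictScalars, LinearMap.sum_apply, LinearMap.smul_apply, T,
          LinearMap.coe_mk, AddHom.coe_mk, LinearMap.liftBaseChange_tmul, one_smul,
          LinearMap.comp_apply, Algebra.linearMap_apply, smul_eq_mul]
        conv_rhs => rw [← hφ m, TensorProduct.tmul_sum, map_sum]
        refine Finset.sum_congr rfl fun k _ => ?_
        rw [TensorProduct.tmul_smul, LinearMap.map_smul_of_tower, Algebra.smul_def]
        ring)
      (by
        ext f
        simp only [TensorProduct.AlgebraTensorModule.curry_apply, TensorProduct.curry_apply,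
          LinearMap.coe_restrictScalars, LinearMap.coe_comp, LinearMap.coe_mk, AddHom.coe_mk,
          Function.comp_apply, LinearMap.liftBaseChange_tmul, one_smul, LinearMap.id_coe, id_eq, T,
          Algebra.linearMap_apply]
        simp only [Algebra.algebraMap_eq_smul_one, TensorProduct.smul_tmul, ← TensorProduct.tmul_sum]
        congr 1
        ext b
        simp only [LinearMap.sum_apply, LinearMap.smul_apply, smul_eq_mul]
        conv_rhs => rw [← hφ b, map_sum]
        simp only [map_smul, smul_eq_mul, mul_comm])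
  rw [← hq, ← Module.rankAtStalk_baseChange, ← Module.rankAtStalk_baseChange,
    Module.rankAtStalk_eq_of_equiv e, Module.rankAtStalk_eq_finrank_of_free,
    Module.rankAtStalk_eq_finrank_of_free]
  show Module.finrank K (Module.Dual K (K ⊗[R] M)) = Module.finrank K (K ⊗[R] M)
  exact Subspace.dual_finrank_eq

theorem rank_dual {A : Type u} [CommRing A] [HopfAlgebra R A] [Module.Finite R A]
    [Module.Projective R A] {n : ℕ} (hrk : ∀ q : PrimeSpectrum R, Module.rankAtStalk A q = n)
    (q : PrimeSpectrum R) : Module.rankAtStalk (CartDual.D R A) q = n := by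
  rw [Module.rankAtStalk_eq_of_equiv (CartDual.toDual R A), rankAtStalk_dual, hrk]

theorem exists_algHom_of_ker_le {T A B : Type*} [Semiring T] [Algebra R T] [Ring A] [Algebra R A]
    [Ring B] [Algebra R B] (f : T →ₐ[R] A) (hf : Function.Surjective f) (g : T →ₐ[R] B)
    (h : ∀ x y, f x = f y → g x = g y) : ∃ Φ : A →ₐ[R] B, ∀ x, Φ (f x) = g x := by
  choose s hs using hf
  refine ⟨{ toFun := fun a => g (s a), map_one' := ?_, map_mul' := ?_, map_zero' := ?_,
            map_add' := ?_, commutes' := ?_ }, fun x => h _ _ (hs _)⟩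
  · exact (h _ 1 (by rw [hs, map_one])).trans (map_one g)
  · intro a b; rw [← map_mul]; exact h _ _ (by rw [hs, map_mul, hs, hs])
  · exact (h _ 0 (by rw [hs, map_zero])).trans (map_zero g)
  · intro a b; rw [← map_add]; exact h _ _ (by rw [hs, map_add, hs, hs])
  · intro r; exact (h _ (algebraMap R T r) (by rw [hs, AlgHom.commutes])).trans (g.commutes r)

end Aux

variable {R : Type u} [CommRing R] {p : ℕ} [Fact p.Prime] {u : R} {χ : (ZMod p)ˣ →* Rˣ}
  (hu : u * ((p - 1 : ℕ) : R) = 1)
  (hχ : ∀ m : (ZMod p)ˣ, m ≠ 1 → IsUnit ((χ m : R) - 1))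
  (hχp : ∀ m : (ZMod p)ˣ,
    ((χ m : Rˣ) : R) - (((m : ZMod p).val : ℕ) : R) ∈ Ideal.span ({(p : R)} : Set R))
  {A : Type u} [CommRing A] [HopfAlgebra R A] [Module.Finite R A] [Module.Projective R A]
  (hrk : ∀ q : PrimeSpectrum R, Module.rankAtStalk A q = p)
  {A' : Type u} [CommRing A'] [HopfAlgebra R A'] [Module.Finite R A'] [Module.Projective R A']

include hu hχ hχp hrk

/-- The algebra map extending a map of `I₁` compatible with `p`-fold products. -/
theorem exists_extension
    (θ : _root_.OortTate.eigenAug R A p χ 1 →ₗ[R] _root_.OortTate.eigenAug R A' p χ 1)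
    (hθ : ∀ (f : Fin p → _root_.OortTate.eigenAug R A p χ 1)
      (g : _root_.OortTate.eigenAug R A p χ 1),
      (g : A) = ∏ i, (f i : A) → (θ g : A') = ∏ i, (θ (f i) : A')) :
    ∃ Φ : A →ₐ[R] A', ∀ x : _root_.OortTate.eigenAug R A p χ 1, Φ (x : A) = (θ x : A') := by
  obtain ⟨hsurj, hker⟩ := tensorAlgebra_presentation hu hχ hχp hrk
  set L := TensorAlgebra.lift R (_root_.OortTate.eigenAug R A p χ 1).subtype
  set g := TensorAlgebra.lift R ((_root_.OortTate.eigenAug R A' p χ 1).subtype ∘ₗ θ)
  have hle : RingHom.ker L ≤ RingHom.ker g := by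
    rw [hker, Ideal.span_le]
    rintro _ ⟨f, g', hg, rfl⟩
    rw [SetLike.mem_coe, RingHom.mem_ker, map_sub, map_list_prod, List.map_ofFn, List.prod_ofFn]
    simp only [g, TensorAlgebra.lift_ι_apply, Function.comp_apply, LinearMap.comp_apply,
      Submodule.subtype_apply]
    rw [hθ f g' hg, sub_self]
  obtain ⟨Φ, hΦ⟩ := exists_algHom_of_ker_le L hsurj g fun x y h => by
    have : x - y ∈ RingHom.ker L := by rw [RingHom.mem_ker, map_sub, h, sub_self]
    have := hle this
    rwa [RingHom.mem_ker, map_sub, sub_eq_zero] at this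
  refine ⟨Φ, fun x => ?_⟩
  have h := hΦ (TensorAlgebra.ι R x)
  simpa [L, g] using h

omit hrk [Module.Finite R A'] [Module.Projective R A'] in
theorem algHom_ext_eigen (hrk : ∀ q : PrimeSpectrum R, Module.rankAtStalk A q = p)
    {B : Type u} [CommRing B] [Algebra R B] {F G : A →ₐ[R] B}
    (h : ∀ x : _root_.OortTate.eigenAug R A p χ 1, F (x : A) = G (x : A)) : F = G := by
  obtain ⟨hsurj, -⟩ := tensorAlgebra_presentation hu hχ hχp hrk
  refine AlgHom.ext fun a => ?_
  obtain ⟨t, rfl⟩ := hsurj a
  have : F.comp (TensorAlgebra.lift R (_root_.OortTate.eigenAug R A p χ 1).subtype) =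
      G.comp (TensorAlgebra.lift R (_root_.OortTate.eigenAug R A p χ 1).subtype) :=
    TensorAlgebra.hom_ext (LinearMap.ext fun x => by simpa using h x)
  exact AlgHom.congr_fun this t

variable [Coalgebra.IsCocomm R A] [Coalgebra.IsCocomm R A']
  (hrk' : ∀ q : PrimeSpectrum R, Module.rankAtStalk A' q = p)

include hrk'

theorem nonempty_bialgEquiv
    (θ : _root_.OortTate.eigenAug R A p χ 1 ≃ₗ[R] _root_.OortTate.eigenAug R A' p χ 1)
    (hθ : ∀ (f : Fin p → _root_.OortTate.eigenAug R A p χ 1)
      (g : _root_.OortTate.eigenAug R A p χ 1),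
      (g : A) = ∏ i, (f i : A) →
        ((θ g : _root_.OortTate.eigenAug R A' p χ 1) : A') = ∏ i, ((θ (f i)) : A'))
    (hθD : ∀ (φ : Fin p → _root_.OortTate.eigenAug R (CartDual.D R A) p χ 1)
      (φ' : Fin p → _root_.OortTate.eigenAug R (CartDual.D R A') p χ 1)
      (ψ : _root_.OortTate.eigenAug R (CartDual.D R A) p χ 1)
      (ψ' : _root_.OortTate.eigenAug R (CartDual.D R A') p χ 1),
      (∀ i, ∀ x : _root_.OortTate.eigenAug R A p χ 1,
        CartDual.toDual R A (φ i : CartDual.D R A) (x : A) =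
          CartDual.toDual R A' (φ' i : CartDual.D R A')
            ((θ x : _root_.OortTate.eigenAug R A' p χ 1) : A')) →
      (ψ : CartDual.D R A) = ∏ i, (φ i : CartDual.D R A) →
      (ψ' : CartDual.D R A') = ∏ i, (φ' i : CartDual.D R A') →
      ∀ x : _root_.OortTate.eigenAug R A p χ 1,
        CartDual.toDual R A (ψ : CartDual.D R A) (x : A) =
          CartDual.toDual R A' (ψ' : CartDual.D R A')
            ((θ x : _root_.OortTate.eigenAug R A' p χ 1) : A')) :
    Nonempty (A ≃ₐc[R] A') := by
  have hp := convPow_rank_eq_one hrk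
  have hp2 := (Fact.out : p.Prime).two_le
  obtain ⟨Φ, hΦ⟩ := exists_extension hu hχ hχp hrk θ.toLinearMap hθ
  obtain ⟨Ψ, hΨ⟩ := exists_extension (A := A') (A' := A) hu hχ hχp hrk' θ.symm.toLinearMap
    (fun f g hg => by
      have hmem : ∏ i, (θ.symm (f i) : A) ∈ _root_.OortTate.eigenAug R A p χ 1 := by
        have h := prod_mem_eigenAug (R := R) (p := p) (χ := χ) (t := p) (by omega)
          (fun i => (θ.symm (f i) : A)) fun i => (θ.symm (f i)).2
        rwa [eigenAug_congr (j := 1) ((Nat.modEq_iff_dvd' (by omega)).2 dvd_rfl).symm] at h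
      have h1 := hθ (fun i => θ.symm (f i)) ⟨_, hmem⟩ rfl
      simp only [LinearEquiv.apply_symm_apply, ← hg] at h1
      show (θ.symm g : A) = ∏ i, (θ.symm (f i) : A)
      rw [← Subtype.ext h1, LinearEquiv.symm_apply_apply])
  simp only [LinearEquiv.coe_coe] at hΦ hΨ
  let e : A ≃ₐ[R] A' := AlgEquiv.ofAlgHom Φ Ψ
    (algHom_ext_eigen hu hχ hχp hrk' fun x => by
      rw [AlgHom.comp_apply, hΨ, hΦ, LinearEquiv.apply_symm_apply]; rfl)
    (algHom_ext_eigen hu hχ hχp hrk fun x => by
      rw [AlgHom.comp_apply, hΦ, hΨ, LinearEquiv.symm_apply_apply]; rfl)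
  have hm : ∀ (m : (ZMod p)ˣ) (a : A), Φ (SGA3b.powConv R A (m : ZMod p).val a) =
      SGA3b.powConv R A' (m : ZMod p).val (Φ a) := fun m a => by
    refine AlgHom.congr_fun (algHom_ext_eigen hu hχ hχp hrk (F := Φ.comp (SGA3b.powConv R A _))
      (G := (SGA3b.powConv R A' _).comp Φ) fun x => ?_) a
    rw [AlgHom.comp_apply, AlgHom.comp_apply, (mem_eigenAug.1 x.2).2, map_smul, hΦ,
      (mem_eigenAug.1 (θ x).2).2]
  have hεΦ : ∀ a, Bialgebra.counitAlgHom R A' (Φ a) = Bialgebra.counitAlgHom R A a := fun a => by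
    refine AlgHom.congr_fun (algHom_ext_eigen hu hχ hχp hrk
      (F := (Bialgebra.counitAlgHom R A').comp Φ) (G := Bialgebra.counitAlgHom R A) fun x => ?_) a
    rw [AlgHom.comp_apply, hΦ, (mem_eigenAug.1 (θ x).2).1, (mem_eigenAug.1 x.2).1]
  let F : CartDual.D R A' →ₗ[R] CartDual.D R A :=
    { toFun := fun φ => toConv (φ.ofConv ∘ₗ Φ.toLinearMap)
      map_add' := fun _ _ => rfl
      map_smul' := fun _ _ => rfl }
  have hF : ∀ φ a, (F φ).ofConv a = φ.ofConv (Φ a) := fun φ a => rfl
  have hF1 : F 1 = 1 := by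
    apply WithConv.ofConv_injective
    apply LinearMap.ext
    intro a
    rw [hF]
    simpa [LinearMap.convOne_def] using hεΦ a
  have hFmem : ∀ {t : ℕ} {φ : CartDual.D R A'},
      φ ∈ _root_.OortTate.eigenAug R (CartDual.D R A') p χ t →
      F φ ∈ _root_.OortTate.eigenAug R (CartDual.D R A) p χ t := by
    intro t φ hφ
    refine mem_eigenAug.2 ⟨?_, fun m => ?_⟩
    · have := (mem_eigenAug.1 hφ).1
      show (F φ).ofConv 1 = 0
      rw [hF, map_one]
      exact this
    · apply WithConv.ofConv_injective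
      apply LinearMap.ext
      intro a
      rw [powConv_dual_apply, hF, hm, ← powConv_dual_apply, (mem_eigenAug.1 hφ).2]
      rfl
  have hprod : ∀ t, 1 ≤ t → t ≤ p → ∀ v : Fin t → CartDual.D R A',
      (∀ i, v i ∈ _root_.OortTate.eigenAug R (CartDual.D R A') p χ 1) →
      F (∏ i, v i) = ∏ i, F (v i) := by
    intro t ht htp v hv
    rcases htp.eq_or_lt with rfl | hlt
    · have hmod : t ≡ 1 [MOD (t - 1)] := ((Nat.modEq_iff_dvd' (by omega)).2 dvd_rfl).symm
      have h1 : ∏ i, v i ∈ _root_.OortTate.eigenAug R (CartDual.D R A') t χ 1 := by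
        rw [← eigenAug_congr hmod]; exact prod_mem_eigenAug ht v hv
      have h2 : ∏ i, F (v i) ∈ _root_.OortTate.eigenAug R (CartDual.D R A) t χ 1 := by
        rw [← eigenAug_congr hmod]; exact prod_mem_eigenAug ht _ fun i => hFmem (hv i)
      have h := hθD (fun i => ⟨F (v i), hFmem (hv i)⟩) (fun i => ⟨v i, hv i⟩) ⟨_, h2⟩ ⟨_, h1⟩
        (fun i x => by
          show (F (v i)).ofConv (x : A) = (v i).ofConv _
          rw [hF, hΦ]) rfl rfl
      have h3 := (dual_restrict_eigenAug_bijective (A := A) (χ := χ) hu hp 1).1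
        (a₁ := ⟨_, hFmem h1⟩) (a₂ := ⟨_, h2⟩) (LinearMap.ext fun x => by
          show (F (∏ i, v i)).ofConv (x : A) = (∏ i, F (v i)).ofConv (x : A)
          rw [hF, hΦ]
          exact (h x).symm)
      exact congrArg Subtype.val h3
    · have hlt' : t ≤ p - 1 := by omega
      obtain ⟨w, hw⟩ := exists_unit_pow (R := R) (u := u) hu hχ hχp ht hlt'
      have h3 := (dual_restrict_eigenAug_bijective (A := A) (χ := χ) hu hp t).1
        (a₁ := ⟨_, hFmem (prod_mem_eigenAug ht v hv)⟩)
        (a₂ := ⟨_, prod_mem_eigenAug ht _ fun i => hFmem (hv i)⟩) (LinearMap.ext fun x => by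
          show (F (∏ i, v i)).ofConv (x : A) = (∏ i, F (v i)).ofConv (x : A)
          have hx : (x : A) ∈ Submodule.span R
              ((_root_.OortTate.eigenAug R A p χ 1 : Set A) ^ t) := by
            rw [← Submodule.pow_eq_span_pow_set, eigenAug_one_pow_eq hu hχ hχp hrk ht hlt']
            exact x.2
          generalize (x : A) = a at hx
          induction hx using Submodule.span_induction with
          | zero => rw [map_zero, map_zero]
          | add a b _ _ ha hb => rw [map_add, map_add, ha, hb]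
          | smul r a _ ha => rw [map_smul, map_smul, ha]
          | mem a ha =>
            obtain ⟨f, rfl⟩ := Set.mem_pow.1 ha
            rw [List.prod_ofFn, hF, map_prod,
              pairing_prod hu hχ hχp hrk' ht hw v hv (fun i => Φ (f i : A))
                (fun i => by rw [hΦ ⟨_, (f i).2⟩]; exact (θ ⟨_, (f i).2⟩).2),
              pairing_prod hu hχ hχp hrk ht hw (fun i => F (v i)) (fun i => hFmem (hv i))
                (fun i => (f i : A)) (fun i => (f i).2)]
            rfl)
      exact congrArg Subtype.val h3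
  have hrkD' := rank_dual hrk'
  have hpD' := convPow_rank_eq_one hrkD'
  have hone : ∀ v ∈ _root_.OortTate.eigenAug R (CartDual.D R A') p χ 1, ∀ y : CartDual.D R A',
      F (v * y) = F v * F y := by
    intro v hv
    let Y : Submodule R (CartDual.D R A') :=
      LinearMap.eqLocus (F ∘ₗ LinearMap.mulLeft R v) (LinearMap.mulLeft R (F v) ∘ₗ F)
    intro y
    show y ∈ Y
    have h1 : (1 : CartDual.D R A') ∈ Y := by
      show F (v * 1) = F v * F 1
      rw [mul_one, hF1, mul_one]
    have hle : (⨆ i : Fin (p - 1), _root_.OortTate.eigenAug R (CartDual.D R A') p χ (i : ℕ)) ≤ Y := by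
      refine iSup_le fun i => ?_
      obtain ⟨hr1, hr2, hr3⟩ := rep_spec hp2 (i : ℕ)
      rw [← eigenAug_congr hr3, ← eigenAug_one_pow_eq hu hχ hχp hrkD' hr1 hr2,
        Submodule.pow_eq_span_pow_set, Submodule.span_le]
      intro z hz
      obtain ⟨f, rfl⟩ := Set.mem_pow.1 hz
      show F (v * (List.ofFn fun j => (f j : CartDual.D R A')).prod) = F v * F _
      rw [List.prod_ofFn, hprod _ hr1 (by omega) _ fun j => (f j).2]
      have h := hprod (rep p i + 1) (by omega) (by omega)
        (Fin.cons v fun j => (f j : CartDual.D R A'))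
        (Fin.cases hv fun j => (f j).2)
      rw [Fin.prod_univ_succ, Fin.prod_univ_succ] at h
      simpa using h
    have hy : y - Bialgebra.counitAlgHom R (CartDual.D R A') y • 1 ∈
        LinearMap.ker (Bialgebra.counitAlgHom R (CartDual.D R A')).toLinearMap := by
      simp only [LinearMap.mem_ker, AlgHom.toLinearMap_apply, map_sub, map_smul, map_one,
        smul_eq_mul, mul_one, sub_self]
    rw [← iSup_eigenAug hu hχ hpD'] at hy
    simpa using Y.add_mem (hle hy) (Y.smul_mem (Bialgebra.counitAlgHom R (CartDual.D R A') y) h1)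
  have hFmul : ∀ x y : CartDual.D R A', F (x * y) = F x * F y := by
    intro x
    obtain ⟨t, rfl⟩ := (tensorAlgebra_presentation hu hχ hχp hrkD').1 x
    induction t using TensorAlgebra.induction with
    | algebraMap r =>
      intro y
      rw [AlgHom.commutes, ← Algebra.smul_def, map_smul, Algebra.algebraMap_eq_smul_one, map_smul,
        hF1, smul_mul_assoc, one_mul]
    | ι v => intro y; rw [TensorAlgebra.lift_ι_apply]; exact hone _ v.2 y
    | mul a b ha hb => intro y; rw [map_mul (TensorAlgebra.lift R _) a b, mul_assoc, ha, hb, ha, mul_assoc]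
    | add a b ha hb => intro y; rw [map_add, add_mul, map_add, map_add, ha, hb, add_mul]
  refine ⟨BialgEquiv.ofAlgEquiv e ?_ ?_⟩
  · exact AlgHom.ext hεΦ
  · apply AlgHom.ext
    intro a
    rw [← sub_eq_zero]
    refine (Module.forall_dual_apply_eq_zero_iff R _).1 fun φ => ?_
    obtain ⟨y, rfl⟩ := (CartDual.ev₂ R A').surjective φ
    rw [map_sub, sub_eq_zero]
    show CartDual.ev₂ R A' y (Algebra.TensorProduct.map Φ Φ (Coalgebra.comul (R := R) a)) =
      CartDual.ev₂ R A' y (Coalgebra.comul (R := R) (Φ a))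
    induction y with
    | zero => simp
    | add s t hs ht => simp only [map_add, LinearMap.add_apply, hs, ht]
    | tmul x z =>
      have h := congrArg (fun k : CartDual.D R A => k.ofConv a) (hFmul x z)
      simp only [hF] at h
      have key : ∀ s : A ⊗[R] A,
          CartDual.ev₂ R A' (x ⊗ₜ z) (Algebra.TensorProduct.map Φ Φ s) =
            LinearMap.mul' R R (TensorProduct.map (F x).ofConv (F z).ofConv s) := by
        intro s
        induction s with
        | zero => simp
        | add b c hb hc => simp only [map_add, hb, hc]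
        | tmul b c => simp [hF, CartDual.ev₂_tmul_eq']
      rw [key, CartDual.ev₂_tmul_eq']
      exact h.symm

omit hu hχ hχp hrk hrk' in
theorem eigen_generator {B : Type u} [CommRing B] [HopfAlgebra R B] {x : B}
    (hx : Submodule.span R {x} = _root_.OortTate.eigenAug R B p χ 1)
    (hfree : ∀ r : R, r • x = 0 → r = 0) :
    ∃ e : R ≃ₗ[R] _root_.OortTate.eigenAug R B p χ 1, ∀ r, (e r : B) = r • x := by
  have hmem : ∀ r, r • x ∈ _root_.OortTate.eigenAug R B p χ 1 := fun r =>
    hx ▸ Submodule.smul_mem _ _ (Submodule.mem_span_singleton_self x)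
  refine ⟨LinearEquiv.ofBijective ((LinearMap.toSpanSingleton R B x).codRestrict _ hmem) ⟨?_, ?_⟩,
    fun r => rfl⟩
  · intro a b hab
    have h : a • x = b • x := congrArg Subtype.val hab
    exact sub_eq_zero.1 (hfree _ (by rw [sub_smul, h, sub_self]))
  · intro f
    obtain ⟨r, hr⟩ := Submodule.mem_span_singleton.1 (hx.ge f.2)
    exact ⟨r, Subtype.ext hr⟩

theorem nonempty_bialgEquiv_of_generators
    (x : A) (hx : Submodule.span R {x} = _root_.OortTate.eigenAug R A p χ 1)
    (ξ : CartDual.D R A)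
    (hξ : Submodule.span R {ξ} = _root_.OortTate.eigenAug R (CartDual.D R A) p χ 1)
    (hxξ : CartDual.toDual R A ξ x = 1)
    (x' : A') (hx' : Submodule.span R {x'} = _root_.OortTate.eigenAug R A' p χ 1)
    (ξ' : CartDual.D R A')
    (hξ' : Submodule.span R {ξ'} = _root_.OortTate.eigenAug R (CartDual.D R A') p χ 1)
    (hxξ' : CartDual.toDual R A' ξ' x' = 1)
    (α β α' β' : R) (hα : x ^ p = α • x) (hβ : ξ ^ p = β • ξ) (hα' : x' ^ p = α' • x')
    (hβ' : ξ' ^ p = β' • ξ')
    (v : Rˣ) (hαv : α' = ((v ^ (p - 1) : Rˣ) : R) * α)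
    (hβv : β' = ((v⁻¹ ^ (p - 1) : Rˣ) : R) * β) :
    Nonempty (A ≃ₐc[R] A') := by
  have hp1 : p - 1 + 1 = p := Nat.sub_add_cancel (Fact.out : p.Prime).one_le
  have hfx : ∀ r : R, r • x = 0 → r = 0 := fun r hr => by
    have h := congrArg (CartDual.toDual R A ξ) hr
    rwa [map_smul, hxξ, smul_eq_mul, mul_one, map_zero] at h
  have hfx' : ∀ r : R, r • x' = 0 → r = 0 := fun r hr => by
    have h := congrArg (CartDual.toDual R A' ξ') hr
    rwa [map_smul, hxξ', smul_eq_mul, mul_one, map_zero] at h
  obtain ⟨e, he⟩ := eigen_generator hx hfx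
  obtain ⟨e', he'⟩ := eigen_generator hx' hfx'
  let θ := e.symm ≪≫ₗ LinearEquiv.smulOfUnit v⁻¹ ≪≫ₗ e'
  have hθe : ∀ r, ((θ (e r) : _root_.OortTate.eigenAug R A' p χ 1) : A') =
      (((v⁻¹ : Rˣ) : R) * r) • x' := fun r => by
    simp only [θ, LinearEquiv.trans_apply, LinearEquiv.symm_apply_apply, he']
    rfl
  have hvp : ((v⁻¹ : Rˣ) : R) ^ p * ((v ^ (p - 1) : Rˣ) : R) = ((v⁻¹ : Rˣ) : R) := by
    rw [← Units.val_pow_eq_pow_val, ← Units.val_mul]
    congr 1
    conv_lhs => rw [← hp1, pow_succ, add_tsub_cancel_right]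
    rw [mul_right_comm, inv_pow, inv_mul_cancel, one_mul]
  refine nonempty_bialgEquiv hu hχ hχp hrk hrk' θ ?_ ?_
  · intro f g hg
    obtain ⟨d, rfl⟩ := e.surjective g
    choose c hc using fun i => e.surjective (f i)
    simp only [← hc, he, hθe, Finset.prod_smul, Finset.prod_const, Finset.card_univ,
      Fintype.card_fin, hα, hα', smul_smul, Finset.prod_mul_distrib] at hg ⊢
    have hd := sub_eq_zero.1 (hfx _ (by rw [sub_smul, hg, sub_self]) : d - (∏ i, c i) * α = 0)
    congr 1
    rw [hd, hαv]
    linear_combination (-(α * ∏ i, c i)) * hvp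
  · intro φ φ' ψ ψ' hφ hψ hψ' y
    choose c' hc' using fun i => Submodule.mem_span_singleton.1 (hξ'.ge (φ' i).2)
    choose c hc using fun i => Submodule.mem_span_singleton.1 (hξ.ge (φ i).2)
    obtain ⟨r, rfl⟩ := e.surjective y
    have hev : ∀ i, c i = c' i * ((v⁻¹ : Rˣ) : R) := fun i => by
      have h := hφ i (e 1)
      rw [← hc i, ← hc' i, hθe, he] at h
      simp only [map_smul, LinearMap.smul_apply, hxξ, hxξ', smul_eq_mul, mul_one] at h
      linear_combination h
    rw [hψ, hψ', hθe, he]
    simp only [← hc, ← hc', Finset.prod_smul, Finset.prod_const, Finset.card_univ,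
      Fintype.card_fin, hβ, hβ', map_smul, LinearMap.smul_apply, hxξ, hxξ', smul_eq_mul, hev,
      Finset.prod_mul_distrib, hβv]
    have hpv : ((v⁻¹ : Rˣ) : R) ^ p = ((v⁻¹ ^ (p - 1) : Rˣ) : R) * ((v⁻¹ : Rˣ) : R) := by
      rw [Units.val_pow_eq_pow_val, ← pow_succ, hp1]
    rw [hpv]
    ring

end Groth.Agent.OortTate
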