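import Groth.Agent.OortTate.Eigen
import Groth.Agent.Sga3.HopfFiniteGroup
import Mathlib

/-!
Hopf algebras of dimension `p` over an algebraically closed field: the convolution algebra of linear
forms is monogenic, and the `χ`-eigenspace contains an element with nonzero powers up to `p - 1`.
-/

universe u

open TensorProduct WithConv Groth.Sga3.HopfFin Groth.Sga3.HopfDeriv

namespace Groth.Agent.OortTate

variable {K : Type u} [Field K] {A : Type u} [CommRing A] [HopfAlgebra K A]

/-- A point as a linear form in the convolution ring. -/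
def ptLin (g : WithConv (A →ₐ[K] K)) : WithConv (A →ₗ[K] K) := toConv g.ofConv.toLinearMap

theorem ptLin_pow (g : WithConv (A →ₐ[K] K)) (n : ℕ) : ptLin (g ^ n) = ptLin g ^ n :=
  AlgHom.toLinearMap_convPow g n

theorem pt_powConv (g : WithConv (A →ₐ[K] K)) (n : ℕ) (a : A) :
    g (SGA3b.powConv K A n a) = (g ^ n) a :=
  postComp_powMap g.ofConv n a

/-- The whole algebra as a counital local algebra, when the augmentation ideal is nilpotent. -/
noncomputable def whole {N : ℕ} (hN : aug K A ^ N = ⊥) : CounitalLocal K A where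
  ε := Bialgebra.counitAlgHom K A
  Δ := Bialgebra.comulAlgHom K A
  hr a := by
    show TensorProduct.rid K A ((Coalgebra.counit (R := K) (A := A)).lTensor A
      (Coalgebra.comul (R := K) a)) = a
    simp
  hl a := by
    show TensorProduct.lid K A ((Coalgebra.counit (R := K) (A := A)).rTensor A
      (Coalgebra.comul (R := K) a)) = a
    simp
  nil a ha := ⟨N, by rw [← Ideal.mem_bot, ← hN]; exact Ideal.pow_mem_pow ha N⟩

/-- Over an algebraically closed field, a Hopf algebra of dimension `p` is either the algebra of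
functions on a cyclic group of `p` points or local of characteristic `p`. -/
theorem dichotomy [IsAlgClosed K] [Module.Finite K A] {p : ℕ} [Fact p.Prime]
    (h : Module.finrank K A = p) :
    (∃ g0 : WithConv (A →ₐ[K] K), orderOf g0 = p ∧
      Function.Bijective (fun (a : A) (j : Fin p) => (g0 ^ (j : ℕ)) a)) ∨
    (CharP K p ∧ ∃ N, aug K A ^ N = ⊥) := by
  obtain ⟨ι, _, g, N, hN0, hN, hrank, hzero⟩ := exists_decomp K A
  rw [h] at hrank
  rcases (Nat.dvd_prime (Fact.out : p.Prime)).1 ⟨_, hrank⟩ with hc | hc
  · right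
    have hN' : aug K A ^ N = ⊥ := by
      refine (Submodule.eq_bot_iff _).2 fun a ha => hzero a fun i => ?_
      have h1 : g i = 1 := by
        have := Fintype.card_le_one_iff_subsingleton.1 hc.le
        rw [Subsingleton.elim i (g.symm 1), g.apply_symm_apply]
      have h2 : RingHom.ker (g i).ofConv = aug K A := by
        rw [h1]; ext b; simp [aug, RingHom.mem_ker]
      rw [h2]; exact ha
    refine ⟨?_, N, hN'⟩
    obtain ⟨q, hq⟩ := CharP.exists K
    rcases CharP.char_is_prime_or_zero K q with hq' | hq'
    · have : Fact q.Prime := ⟨hq'⟩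
      obtain ⟨m, hm⟩ := (whole hN').exists_finrank_eq_pow q
      rw [h] at hm
      have : p ∣ q := (Fact.out : p.Prime).dvd_of_dvd_pow (show p ∣ q ^ m by rw [← hm])
      rw [(Nat.prime_dvd_prime_iff_eq (Fact.out : p.Prime) hq').1 this]
      exact hq
    · subst hq'
      have : CharZero K := CharP.charP_to_charZero K
      have := (whole hN').finrank_eq_one ((whole hN').m_eq_bot_of_charZero)
      rw [h] at this
      exact absurd this (Fact.out : p.Prime).one_lt.ne'
  · left
    rw [hc] at hrank
    have hr : Module.finrank K (A ⧸ aug K A ^ N) = 1 := by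
      have := (Fact.out : p.Prime).pos
      exact Nat.eq_of_mul_eq_mul_left this (by rw [mul_one]; exact hrank.symm)
    have hker : ∀ (x : WithConv (A →ₐ[K] K)) (a : A), x a = 0 →
        a ∈ RingHom.ker x.ofConv ^ N := by
      intro x a ha
      rw [← Ideal.Quotient.eq_zero_iff_mem]
      have h1 : Module.finrank K (A ⧸ RingHom.ker x.ofConv ^ N) = 1 := by
        rw [finrank_quot_ker_pow, hr]
      have hne : (1 : A ⧸ RingHom.ker x.ofConv ^ N) ≠ 0 := by
        rw [← map_one (Ideal.Quotient.mk _), Ne, Ideal.Quotient.eq_zero_iff_mem]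
        intro h2
        simpa using (Ideal.pow_le_self hN0.ne' h2 : (1 : A) ∈ RingHom.ker x.ofConv)
      obtain ⟨c, hc'⟩ := (finrank_eq_one_iff_of_nonzero' _ hne).1 h1 (Ideal.Quotient.mk _ a)
      have h3 : a - algebraMap K A c ∈ RingHom.ker x.ofConv := by
        refine Ideal.pow_le_self hN0.ne' ?_
        rw [← Ideal.Quotient.eq, ← hc', Algebra.smul_def, mul_one]
        rfl
      rw [RingHom.mem_ker, map_sub, AlgHom.commutes] at h3
      have hc0 : c = 0 := by
        have : x.ofConv a = 0 := ha
        rw [this, zero_sub, neg_eq_zero] at h3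
        simpa using h3
      rw [← hc', hc0, zero_smul]
    have : Fintype (WithConv (A →ₐ[K] K)) := Fintype.ofEquiv ι g
    have hcard : Nat.card (WithConv (A →ₐ[K] K)) = p := by
      rw [← Nat.card_congr g, Nat.card_eq_fintype_card, hc]
    have := isCyclic_of_prime_card hcard
    obtain ⟨g0, hg0⟩ := IsCyclic.exists_ofOrder_eq_natCard (α := WithConv (A →ₐ[K] K))
    rw [hcard] at hg0
    refine ⟨g0, hg0, ?_⟩
    let φ : A →ₗ[K] (Fin p → K) := LinearMap.pi fun j => (g0 ^ (j : ℕ)).ofConv.toLinearMap
    have hφ : Function.Injective φ := by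
      rw [← LinearMap.ker_eq_bot, LinearMap.ker_eq_bot']
      intro a ha
      refine hzero a fun i => hker _ a ?_
      have hf : IsOfFinOrder g0 := isOfFinOrder_of_finite g0
      have htop : Subgroup.zpowers g0 = ⊤ :=
        Subgroup.eq_top_of_card_eq _ (by rw [Nat.card_zpowers, hg0, hcard])
      have hz : g i ∈ Subgroup.zpowers g0 := htop ▸ Subgroup.mem_top _
      obtain ⟨n, hn⟩ := hf.mem_powers_iff_mem_zpowers.2 hz
      have hn' : g0 ^ (n % p) = g i := by rw [← hg0, pow_mod_orderOf]; exact hn
      rw [← hn']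
      exact congrFun ha ⟨n % p, Nat.mod_lt _ (Fact.out : p.Prime).pos⟩
    exact ⟨hφ, (LinearMap.injective_iff_surjective_of_finrank_eq_finrank (by simp [h])).1 hφ⟩

/-- Higher derivatives at the origin of products with powers of `x`. -/
theorem eval_iterate_mul_pow {N : ℕ} (hN : aug K A ^ N = ⊥) {ξ : A →ₗ[K] K}
    (hξ : ∀ a ∈ (whole hN).base, ξ a = 0) {x : A} (hx : Bialgebra.counitAlgHom K A x = 0)
    (hx1 : ξ x = 1) (j : ℕ) (g : A) :
    Bialgebra.counitAlgHom K A (((whole hN).deriv hξ)^[j] (g * x ^ j)) =
      (j.factorial : K) * Bialgebra.counitAlgHom K A g := by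
  induction j generalizing g with
  | zero => simp
  | succ j ih =>
    set d := (whole hN).deriv hξ with hd
    have hD1 : Bialgebra.counitAlgHom K A (d x) = 1 := ((whole hN).counit_deriv hξ x).trans hx1
    have e : d (g * x ^ (j + 1)) = (d g * x + ((j + 1 : ℕ) : A) * (g * d x)) * x ^ j := by
      rw [Derivation.leibniz, Derivation.leibniz_pow]
      simp only [smul_eq_mul, nsmul_eq_mul, Nat.add_sub_cancel]
      ring
    rw [Function.iterate_succ_apply, e, ih, Nat.factorial_succ]
    simp only [map_add, map_mul, map_natCast, hx, hD1]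
    push_cast
    ring

variable (p : ℕ) [Fact p.Prime] in
/-- In the local case: a tangent form and a coordinate. -/
theorem exists_tangent [Module.Finite K A] (h : Module.finrank K A = p) {N : ℕ}
    (hN : aug K A ^ N = ⊥) :
    ∃ (ξ : A →ₗ[K] K) (x : A), (∀ a ∈ (whole hN).base, ξ a = 0) ∧
      Bialgebra.counitAlgHom K A x = 0 ∧ ξ x = 1 := by
  set S := whole hN with hS
  have hne : S.base ≠ ⊤ := by
    intro htop
    have hle : S.m ≤ S.m ^ 2 := by
      intro a ha
      obtain ⟨z, hz, c, hc, e⟩ := Submodule.mem_sup.1 (htop ▸ Submodule.mem_top : a ∈ S.base)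
      obtain ⟨c, rfl⟩ := Submodule.mem_span_singleton.1 hc
      have hc0 : c = 0 := by
        have := congrArg S.ε e
        have hz' : S.ε z = 0 := S.mem_m.1 (Ideal.pow_le_self two_ne_zero hz)
        simpa [hz', S.mem_m.1 ha] using this
      rw [← e, hc0, zero_smul, add_zero]
      exact hz
    have : IsNoetherianRing A := IsNoetherianRing.of_finite K A
    have hbot : S.m = ⊥ := le_bot_iff.1 <|
      Submodule.le_of_le_smul_of_le_jacobson_bot (IsNoetherian.noetherian _) S.m_le_jacobson
        (by rw [bot_sup_eq, smul_eq_mul, ← pow_two]; exact hle)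
    have := S.finrank_eq_one hbot
    rw [h] at this
    exact (Fact.out : p.Prime).one_lt.ne' this
  obtain ⟨x0, -, hx0⟩ := SetLike.exists_of_lt (lt_top_iff_ne_top.2 hne)
  obtain ⟨ξ, hξx, hξ⟩ := Submodule.exists_dual_map_eq_bot_of_notMem hx0 inferInstance
  have hξ' : ∀ a ∈ S.base, ξ a = 0 := fun a ha => by
    have : ξ a ∈ S.base.map ξ := ⟨a, ha, rfl⟩
    rw [hξ] at this
    exact this
  refine ⟨(ξ x0)⁻¹ • ξ, x0 - algebraMap K A (Bialgebra.counitAlgHom K A x0),
    fun a ha => by simp [hξ' a ha], by simp, ?_⟩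
  have h1 : ξ (algebraMap K A (Bialgebra.counitAlgHom K A x0)) = 0 := by
    refine hξ' _ (Submodule.mem_sup_right ?_)
    rw [Algebra.algebraMap_eq_smul_one]
    exact Submodule.smul_mem _ _ (Submodule.mem_span_singleton_self 1)
  rw [LinearMap.smul_apply, map_sub, h1, sub_zero, smul_eq_mul, inv_mul_cancel₀ hξx]

/-- Convolution powers of a tangent form are iterated derivatives at the origin. -/
theorem pow_tangent_apply {N : ℕ} (hN : aug K A ^ N = ⊥) {ξ : A →ₗ[K] K}
    (hξ : ∀ a ∈ (whole hN).base, ξ a = 0) (j : ℕ) (a : A) :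
    ((toConv ξ : WithConv (A →ₗ[K] K)) ^ j) a =
      Bialgebra.counitAlgHom K A (((whole hN).deriv hξ)^[j] a) := by
  induction j generalizing a with
  | zero => simp
  | succ j ih =>
    rw [Function.iterate_succ_apply, ← ih, pow_succ, LinearMap.convMul_apply]
    show _ = ((toConv ξ : WithConv (A →ₗ[K] K)) ^ j)
      (CounitalLocal.contract ξ (Coalgebra.comul (R := K) a))
    generalize Coalgebra.comul (R := K) a = z
    induction z using TensorProduct.induction_on with
    | zero => simp
    | add y z hy hz => simp only [map_add, hy, hz]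
    | tmul y z => simp [CounitalLocal.contract, mul_comm]

variable (K A) in
/-- The convolution ring of linear forms is monogenic. -/
theorem field_monogenic [IsAlgClosed K] [Module.Finite K A] {p : ℕ} [Fact p.Prime]
    (h : Module.finrank K A = p) :
    ∃ b : WithConv (A →ₗ[K] K), LinearIndependent K (fun j : Fin p => b ^ (j : ℕ)) := by
  classical
  rcases dichotomy h with ⟨g0, hg0, hbij⟩ | ⟨hchar, N, hN⟩
  · refine ⟨ptLin g0, Fintype.linearIndependent_iff.2 fun c hc i => ?_⟩
    obtain ⟨a, ha⟩ := hbij.2 (Pi.single i 1)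
    have h1 := congrArg (fun f : WithConv (A →ₗ[K] K) => f.ofConv a) hc
    simp only [WithConv.ofConv_sum, WithConv.ofConv_smul, LinearMap.sum_apply, LinearMap.smul_apply,
      WithConv.ofConv_zero, LinearMap.zero_apply] at h1
    have h2 : ∀ j : Fin p, (ptLin g0 ^ (j : ℕ)).ofConv a = (Pi.single i 1 : Fin p → K) j := by
      intro j
      rw [← ha, ← ptLin_pow]
      rfl
    simp only [h2, Pi.single_apply, smul_eq_mul, mul_ite, mul_one, mul_zero, Finset.sum_ite_eq',
      Finset.mem_univ, if_true] at h1
    exact h1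
  · obtain ⟨ξ, x, hξ, hx, hx1⟩ := exists_tangent p h hN
    refine ⟨toConv ξ, Fintype.linearIndependent_iff.2 fun c hc => ?_⟩
    have hval : ∀ i j : ℕ, i ≤ j → ((toConv ξ : WithConv (A →ₗ[K] K)) ^ i) (x ^ j) =
        if i = j then (i.factorial : K) else 0 := fun i j hij => by
      rw [pow_tangent_apply hN hξ, show x ^ j = x ^ (j - i) * x ^ i by
        rw [← pow_add, Nat.sub_add_cancel hij], eval_iterate_mul_pow hN hξ hx hx1]
      rcases hij.eq_or_lt with rfl | hlt
      · simp
      · rw [if_neg hlt.ne, map_pow, hx, zero_pow (by omega), mul_zero]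
    by_contra hne
    obtain ⟨i0, hi0⟩ := not_forall.1 hne
    obtain ⟨i, hi, hmax⟩ := (Finset.univ.filter fun i => c i ≠ 0).exists_max_image id
      ⟨i0, by simp [hi0]⟩
    have h1 := congrArg (fun f : WithConv (A →ₗ[K] K) => f.ofConv (x ^ (i : ℕ))) hc
    simp only [WithConv.ofConv_sum, WithConv.ofConv_smul, LinearMap.sum_apply, LinearMap.smul_apply,
      WithConv.ofConv_zero, LinearMap.zero_apply, smul_eq_mul] at h1
    rw [Finset.sum_eq_single i, hval _ _ le_rfl, if_pos rfl] at h1
    · refine (Finset.mem_filter.1 hi).2 ((mul_eq_zero.1 h1).resolve_right ?_)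
      intro h2
      rw [CharP.cast_eq_zero_iff K p, (Fact.out : p.Prime).dvd_factorial] at h2
      exact absurd h2 (not_le.2 i.2)
    · intro j _ hji
      by_cases hj : c j = 0
      · rw [hj, zero_mul]
      · have hle : j ≤ i := hmax j (by simp [hj])
        rw [hval _ _ hle, if_neg fun e => hji (Fin.ext e), mul_zero]
    · exact fun hn => absurd (Finset.mem_univ _) hn

/-- The power maps act linearly on tangent forms. -/
theorem tangent_powConv {N : ℕ} (hN : aug K A ^ N = ⊥) {ξ : A →ₗ[K] K}
    (hξ : ∀ a ∈ (whole hN).base, ξ a = 0) (n : ℕ) (a : A) :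
    ξ (SGA3b.powConv K A n a) = (n : K) * ξ a := by
  induction n generalizing a with
  | zero =>
    rw [Nat.cast_zero, zero_mul]
    refine hξ _ (Submodule.mem_sup_right ?_)
    show algebraMap K A (Coalgebra.counit (R := K) a) ∈ _
    rw [Algebra.algebraMap_eq_smul_one]
    exact Submodule.smul_mem _ _ (Submodule.mem_span_singleton_self 1)
  | succ n ih =>
    have key : ∀ z : A ⊗[K] A, ξ (LinearMap.mul' K A (TensorProduct.map
        (SGA3b.powConv K A n).toLinearMap LinearMap.id z)) =
        ξ (TensorProduct.lid K A ((Coalgebra.counit (R := K) (A := A)).rTensor A z)) +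
        ξ (SGA3b.powConv K A n
          (TensorProduct.rid K A ((Coalgebra.counit (R := K) (A := A)).lTensor A z))) := by
      intro z
      induction z using TensorProduct.induction_on with
      | zero => simp
      | add y z hy hz => simp only [map_add, hy, hz]; ring
      | tmul y z =>
        have := (whole hN).tangent_mul hξ (SGA3b.powConv K A n y) z
        rw [show (whole hN).ε = Bialgebra.counitAlgHom K A from rfl, counit_powConv] at this
        simpa [mul_comm] using this
    have hA : SGA3b.powConv K A (n + 1) a = LinearMap.mul' K A (TensorProduct.map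
        (SGA3b.powConv K A n).toLinearMap LinearMap.id (Coalgebra.comul (R := K) a)) := by
      show ((toConv (AlgHom.id K A)) ^ (n + 1)) a = _
      rw [pow_succ, AlgHom.convMul_apply]
      generalize Coalgebra.comul (R := K) a = z
      induction z using TensorProduct.induction_on with
      | zero => simp
      | add y z hy hz => simp only [map_add, hy, hz]
      | tmul y z => rfl
    rw [hA, key, Coalgebra.rTensor_counit_comul, Coalgebra.lTensor_counit_comul,
      TensorProduct.lid_tmul, TensorProduct.rid_tmul, one_smul, ih]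
    push_cast; ring

/-- An eigenvector whose powers up to `p - 1` are nonzero. -/
theorem exists_eigen_pow_ne_zero [IsAlgClosed K] [Module.Finite K A] {p : ℕ} [Fact p.Prime]
    (h : Module.finrank K A = p) {u : K} (hu : u * ((p - 1 : ℕ) : K) = 1)
    (χ : (ZMod p)ˣ →* Kˣ)
    (hχp : ∀ m : (ZMod p)ˣ,
      ((χ m : Kˣ) : K) - (((m : ZMod p).val : ℕ) : K) ∈ Ideal.span ({(p : K)} : Set K)) :
    ∃ x ∈ _root_.OortTate.eigenAug K A p χ 1, ∀ t, t ≤ p - 1 → x ^ t ≠ 0 := by
  classical
  have hpos := (Fact.out : p.Prime).pos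
  rcases dichotomy h with ⟨g0, hg0, hbij⟩ | ⟨hchar, N, hN⟩
  · let val : ZMod p → K := fun j => if hj : j = 0 then 0 else ((χ (Units.mk0 j hj) : Kˣ) : K)
    obtain ⟨x, hx⟩ := hbij.2 (fun j : Fin p => val ((j : ℕ) : ZMod p))
    have hxg : ∀ n : ℕ, (g0 ^ n) x = val (n : ZMod p) := fun n => by
      have := congrFun hx ⟨n % p, Nat.mod_lt _ hpos⟩
      simp only [ZMod.natCast_mod] at this
      rw [← this, ← hg0, pow_mod_orderOf]
    refine ⟨x, mem_eigenAug.2 ⟨?_, fun m => ?_⟩, fun t _ ht => ?_⟩
    · have := hxg 0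
      simpa [val] using this
    · apply hbij.1
      funext j
      show (g0 ^ (j : ℕ)) _ = (g0 ^ (j : ℕ)).ofConv (_ • x)
      rw [map_smul]
      show _ = _ • (g0 ^ (j : ℕ)) x
      rw [pt_powConv, ← pow_mul, hxg, hxg, Nat.cast_mul, ZMod.natCast_zmod_val, pow_one]
      simp only [val, smul_eq_mul]
      by_cases hj : ((j : ℕ) : ZMod p) = 0
      · simp [hj]
      · rw [dif_neg (mul_ne_zero hj m.ne_zero), dif_neg hj, ← Units.val_mul, ← map_mul]
        congr 2
        ext
        simp [mul_comm]
    · have h1 := congrArg g0.ofConv ht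
      rw [map_pow, map_zero] at h1
      have h2 : g0.ofConv x = 1 := by
        have := hxg 1
        rw [pow_one] at this
        rw [this]
        simp [val]
      rw [h2, one_pow] at h1
      exact one_ne_zero h1
  · have hp : toConv (AlgHom.id K A) ^ p = 1 := by
      have := convPow_finrank_eq_one K A
      rwa [h] at this
    obtain ⟨ξ, x, hξ, hx, hx1⟩ := exists_tangent p h hN
    have hm : ∀ m : (ZMod p)ˣ, ((χ m : Kˣ) : K) = (((m : ZMod p).val : ℕ) : K) := fun m => by
      have := hχp m
      rwa [CharP.cast_eq_zero, Ideal.span_singleton_eq_bot.2 rfl, Ideal.mem_bot, sub_eq_zero]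
        at this
    set x1 := _root_.OortTate.proj K A p u χ 1 x with hx1def
    have hε : Bialgebra.counitAlgHom K A x1 = 0 := counit_proj 1 hx
    have hξ1 : ξ x1 = 1 := by
      rw [hx1def, proj_apply, map_smul, map_sum]
      simp only [map_smul, tangent_powConv hN hξ, hx1, mul_one, smul_eq_mul, ← hm, pow_one,
        ← Units.val_mul, ← map_mul, inv_mul_cancel, map_one, Units.val_one]
      rw [Finset.sum_const, Finset.card_univ, ZMod.card_units, nsmul_eq_mul, mul_one, hu]
    refine ⟨x1, proj_mem hp 1 hx, fun t ht h0 => ?_⟩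
    have := eval_iterate_mul_pow hN hξ hε hξ1 t 1
    rw [one_mul, map_one, mul_one, h0, ← pow_tangent_apply hN hξ, map_zero, eq_comm,
      CharP.cast_eq_zero_iff K p, (Fact.out : p.Prime).dvd_factorial] at this
    omega

end Groth.Agent.OortTate
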