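import Groth.Prelude.Def_CartDual
import Groth.Agent.OortTate.Field
import Groth.Agent.OortTate.BaseChange
import Mathlib

/-!
A Hopf algebra of prime rank over any ring is cocommutative and killed by its rank.
-/

universe u

open TensorProduct WithConv

namespace Groth.Agent.OortTate

section Local

variable {R : Type u} [CommRing R] {A : Type u} [CommRing A] [HopfAlgebra R A]
  [Module.Finite R A] [Module.Projective R A]
  {S : Type u} [CommRing S] [Algebra R S] [IsLocalRing S]
  {p : ℕ} [Fact p.Prime]

theorem lift_sum_smul {T : Type u} [CommRing T] [Algebra R T] [Algebra S T] [IsScalarTower R S T]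
    {ι : Type*} [Fintype ι] (c : ι → T) (h : ι → WithConv (A →ₗ[R] T)) (z : S ⊗[R] A) :
    LinearMap.liftBaseChange S (∑ j, c j • h j : WithConv (A →ₗ[R] T)).ofConv z =
      ∑ j, c j * LinearMap.liftBaseChange S (h j).ofConv z := by
  induction z with
  | zero => simp
  | add x y hx hy => simp only [map_add, hx, hy, mul_add, Finset.sum_add_distrib]
  | tmul x y => simp [Finset.smul_sum, mul_smul_comm, WithConv.ofConv_sum]

theorem mul_comm_push (hrk : ∀ q : PrimeSpectrum R, Module.rankAtStalk A q = p)
    (f g : WithConv (A →ₗ[R] S)) : f * g = g * f := by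
  classical
  obtain ⟨hfree, hdim⟩ := free_finrank_baseChange hrk S
  let e : Module.Basis (Fin p) S (S ⊗[R] A) := Module.finBasisOfFinrankEq S _ hdim
  let T := MvPolynomial (Fin p) S
  have : IsScalarTower R S T := inferInstance
  -- coordinates of a linear map with values in an `S`-algebra
  let E : ∀ (T' : Type u) [CommRing T'] [Algebra R T'] [Algebra S T'] [IsScalarTower R S T'],
      WithConv (A →ₗ[R] T') → Fin p → T' :=
    fun T' _ _ _ _ h i => LinearMap.liftBaseChange S h.ofConv (e i)
  have hEinj : ∀ (T' : Type u) [CommRing T'] [Algebra R T'] [Algebra S T'] [IsScalarTower R S T']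
      (h h' : WithConv (A →ₗ[R] T')), E T' h = E T' h' → h = h' := by
    intro T' _ _ _ _ h h' hh
    apply WithConv.ofConv_injective
    apply (LinearMap.liftBaseChangeEquiv S).injective
    exact e.ext fun i => congrFun hh i
  let b : WithConv (A →ₗ[R] T) :=
    toConv ((LinearMap.liftBaseChangeEquiv S).symm (e.constr S (fun i => (MvPolynomial.X i : T))))
  have hb : ∀ i, E T b i = MvPolynomial.X i := fun i => by simp [E, b]
  let M : Matrix (Fin p) (Fin p) T := Matrix.of fun j i => E T (b ^ (j : ℕ)) i
  have hEnat : ∀ (T' T'' : Type u) [CommRing T'] [Algebra R T'] [Algebra S T']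
      [IsScalarTower R S T'] [CommRing T''] [Algebra R T''] [Algebra S T''] [IsScalarTower R S T'']
      (ψ : T' →ₐ[S] T'') (h : WithConv (A →ₗ[R] T')) (i : Fin p),
      E T'' (push (ψ.restrictScalars R) h) i = ψ (E T' h i) := by
    intro T' T'' _ _ _ _ _ _ _ _ ψ h i
    show LinearMap.liftBaseChange S _ (e i) = ψ (LinearMap.liftBaseChange S h.ofConv (e i))
    generalize e i = z
    induction z with
    | zero => simp
    | add x y hx hy => simp only [map_add, hx, hy]
    | tmul x y => simp [push]
  -- evaluation at a point with values in an algebraically closed field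
  obtain ⟨K, _, _, hK, hK', ψ, hψ⟩ : ∃ (K : Type u) (_ : Field K) (_ : Algebra S K) (_ : IsAlgClosed K)
      (_ : IsLocalRing.maximalIdeal S ≤ RingHom.ker (algebraMap S K)) (ψ : T →ₐ[S] K),
      ψ M.det ≠ 0 := by
    let K := AlgebraicClosure (IsLocalRing.ResidueField S)
    refine ⟨K, inferInstance, inferInstance, inferInstance, fun s hs => ?_, ?_⟩
    · rw [RingHom.mem_ker, IsScalarTower.algebraMap_apply S (IsLocalRing.ResidueField S) K,
        IsLocalRing.ResidueField.algebraMap_eq, (IsLocalRing.residue_eq_zero_iff _).2 hs, map_zero]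
    have hdimK : Module.finrank K (K ⊗[R] A) = p :=
      (free_finrank_baseChange hrk K).2
    obtain ⟨b0, hb0⟩ := field_monogenic K (K ⊗[R] A) hdimK
    let r := resEquiv (R := R) (A := A) K K
    refine ⟨MvPolynomial.aeval (fun i => E K (r b0) i), fun h0 => ?_⟩
    set ψ := MvPolynomial.aeval (R := S) (fun i => E K (r b0) i) with hψdef
    have hψb : push (ψ.restrictScalars R) b = r b0 := by
      apply hEinj K
      funext i
      rw [hEnat, hb, hψdef, MvPolynomial.aeval_X]
    rw [AlgHom.map_det] at h0
    obtain ⟨v, hv0, hv⟩ := Matrix.exists_vecMul_eq_zero_iff.2 h0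
    have hsum : ∑ j, v j • (r b0) ^ (j : ℕ) = 0 := by
      apply hEinj K
      funext i
      have := congrFun hv i
      simp only [Matrix.vecMul, dotProduct, AlgHom.mapMatrix_apply, Matrix.map_apply, M,
        Matrix.of_apply, ← hEnat, map_pow, hψb, Pi.zero_apply] at this
      show LinearMap.liftBaseChange S _ (e i) = LinearMap.liftBaseChange S _ (e i)
      rw [lift_sum_smul]
      simp only [E] at this
      rw [this]
      simp
    have h1 : ∑ j, v j • b0 ^ (j : ℕ) = 0 := by
      apply r.injective
      rw [map_zero, ← hsum, map_sum]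
      refine Finset.sum_congr rfl fun j _ => ?_
      rw [← map_pow]
      rfl
    exact hv0 (funext fun j => Fintype.linearIndependent_iff.1 hb0 v h1 j)
  -- `det M` times anything lies in the span of the powers of `b`
  have hspan : ∀ h : WithConv (A →ₗ[R] T),
      M.det • h = ∑ j, Matrix.vecMul (E T h) M.adjugate j • b ^ (j : ℕ) := by
    intro h
    apply hEinj T
    funext i
    have h1 : Matrix.vecMul (Matrix.vecMul (E T h) M.adjugate) M = M.det • E T h := by
      rw [Matrix.vecMul_vecMul, Matrix.adjugate_mul, Matrix.vecMul_smul, Matrix.vecMul_one]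
    have h2 := congrFun h1 i
    simp only [Pi.smul_apply, smul_eq_mul] at h2
    have h3 : E T (∑ j, Matrix.vecMul (E T h) M.adjugate j • b ^ (j : ℕ)) i =
        Matrix.vecMul (Matrix.vecMul (E T h) M.adjugate) M i := lift_sum_smul _ _ _
    rw [h3, h2]
    have h4 := lift_sum_smul (ι := Fin 1) (fun _ => M.det) (fun _ => h) (e i)
    simp only [Fin.sum_univ_one] at h4
    exact h4
  let c := fun a => (f * g - g * f).ofConv a
  have hcomm : ∀ h h' : WithConv (A →ₗ[R] T), (M.det • h) * (M.det • h') = (M.det • h') * (M.det • h) := by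
    intro h h'
    rw [hspan h, hspan h']
    refine Commute.sum_left _ _ _ fun j _ => Commute.sum_right _ _ _ fun k _ => ?_
    exact ((Commute.pow_pow_self b (j : ℕ) (k : ℕ)).smul_left _).smul_right _
  apply WithConv.ofConv_injective
  apply LinearMap.ext
  intro a
  rw [← sub_eq_zero]
  let ι : S →ₐ[R] T := (Algebra.ofId S T).restrictScalars R
  have h1 := hcomm (push ι f) (push ι g)
  simp only [smul_mul_assoc, mul_smul_comm, smul_smul] at h1
  have h2 : M.det * M.det * algebraMap S T ((f * g).ofConv a - (g * f).ofConv a) = 0 := by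
    have := congrArg (fun h : WithConv (A →ₗ[R] T) => h.ofConv a) h1
    simp only [← map_mul, WithConv.ofConv_smul, LinearMap.smul_apply, smul_eq_mul] at this
    rw [map_sub, mul_sub, sub_eq_zero]
    exact this
  set c0 := (f * g).ofConv a - (g * f).ofConv a
  obtain ⟨d, hd⟩ : ∃ d, IsUnit ((M.det * M.det).coeff d) := by
    by_contra hnot
    push Not at hnot
    apply hψ
    have hz : ψ (M.det * M.det) = 0 := by
      rw [MvPolynomial.as_sum (M.det * M.det), map_sum]
      refine Finset.sum_eq_zero fun d _ => ?_
      rw [MvPolynomial.monomial_eq, map_mul, MvPolynomial.algHom_C]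
      have hker : RingHom.ker (algebraMap S K) = IsLocalRing.maximalIdeal S := by
        apply le_antisymm (IsLocalRing.le_maximalIdeal (RingHom.ker_ne_top _))
        exact hK' 
      rw [(RingHom.mem_ker).1 (hker.ge ((IsLocalRing.mem_maximalIdeal _).2 (hnot d))), zero_mul]
    rw [map_mul, mul_self_eq_zero] at hz
    exact hz
  have h3 := congrArg (MvPolynomial.coeff d) h2
  rw [mul_comm, MvPolynomial.algebraMap_eq, MvPolynomial.coeff_C_mul, MvPolynomial.coeff_zero] at h3
  exact hd.mul_left_eq_zero.1 h3

end Local

end Groth.Agent.OortTate
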