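import Groth.Prelude.Def_W4c5ffgsreadingcourseOT
import Groth.Agent.Sga3.HopfFiniteLocal
import Mathlib

/-!
The eigenspace decomposition of the augmentation ideal of a Hopf algebra killed by `p` under the
power maps `[m]`.
-/

universe u

open TensorProduct WithConv Groth.Sga3.HopfFin

namespace Groth.Agent.OortTate

variable {R : Type u} [CommRing R] {A : Type u} [CommRing A] [HopfAlgebra R A]

theorem powConv_eq (n : ℕ) : SGA3b.powConv R A n = powMap R A n := rfl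

theorem counit_powConv (n : ℕ) (a : A) :
    Bialgebra.counitAlgHom R A (SGA3b.powConv R A n a) = Bialgebra.counitAlgHom R A a := by
  rw [powConv_eq, postComp_powMap]
  have h : (toConv (Bialgebra.counitAlgHom R A) : WithConv (A →ₐ[R] R)) = 1 := by
    apply WithConv.ofConv_injective; ext b; simp
  rw [h, one_pow]
  simp

theorem powConv_powConv (m n : ℕ) (a : A) :
    SGA3b.powConv R A m (SGA3b.powConv R A n a) = SGA3b.powConv R A (m * n) a :=
  powMap_powMap m n a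

theorem powConv_mod {p : ℕ} (hp : toConv (AlgHom.id R A) ^ p = 1) (n : ℕ) :
    SGA3b.powConv R A (n % p) = SGA3b.powConv R A n := by
  show ((toConv (AlgHom.id R A)) ^ (n % p)).ofConv = ((toConv (AlgHom.id R A)) ^ n).ofConv
  rw [← pow_eq_pow_mod n hp]

theorem powConv_one : SGA3b.powConv R A 1 = AlgHom.id R A := by
  show ((toConv (AlgHom.id R A)) ^ 1).ofConv = _
  rw [pow_one]

section Char

variable {p : ℕ} [Fact p.Prime] {χ : (ZMod p)ˣ →* Rˣ}

theorem chi_pow_card (m : (ZMod p)ˣ) : ((χ m : Rˣ) : R) ^ (p - 1) = 1 := by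
  rw [← Units.val_pow_eq_pow_val, ← map_pow, ZMod.units_pow_card_sub_one_eq_one, map_one,
    Units.val_one]

theorem exists_gen : ∃ g : (ZMod p)ˣ, orderOf g = p - 1 := by
  obtain ⟨g, hg⟩ := IsCyclic.exists_ofOrder_eq_natCard (α := (ZMod p)ˣ)
  exact ⟨g, by rw [hg, Nat.card_eq_fintype_card, ZMod.card_units]⟩

variable (hχ : ∀ m : (ZMod p)ˣ, m ≠ 1 → IsUnit ((χ m : R) - 1))

include hχ

theorem sum_chi_mul_chi_inv {i j : ℕ} (h : ¬ i ≡ j [MOD (p - 1)]) :
    ∑ m : (ZMod p)ˣ, ((χ m⁻¹ : Rˣ) : R) ^ j * ((χ m : Rˣ) : R) ^ i = 0 := by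
  obtain ⟨g, hg⟩ := exists_gen (p := p)
  have hne : g⁻¹ ^ j * g ^ i ≠ 1 := by
    intro h1
    apply h
    rw [inv_pow, inv_mul_eq_one, pow_eq_pow_iff_modEq, hg] at h1
    exact h1.symm
  have e : ∀ m : (ZMod p)ˣ, ((χ m⁻¹ : Rˣ) : R) ^ j * ((χ m : Rˣ) : R) ^ i =
      ((χ (m⁻¹ ^ j * m ^ i) : Rˣ) : R) := fun m => by simp
  simp only [e]
  have h2 : (((χ (g⁻¹ ^ j * g ^ i) : Rˣ) : R) - 1) *
      ∑ m : (ZMod p)ˣ, ((χ (m⁻¹ ^ j * m ^ i) : Rˣ) : R) = 0 := by
    rw [sub_mul, one_mul, Finset.mul_sum, sub_eq_zero]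
    refine Fintype.sum_equiv (Equiv.mulLeft g) _ _ fun m => ?_
    rw [← Units.val_mul, ← map_mul, Equiv.coe_mulLeft]
    congr 2
    simp only [mul_pow, mul_inv_rev, mul_comm, mul_left_comm, mul_assoc]
  exact (hχ _ hne).mul_right_eq_zero.1 h2

theorem sum_range_chi {m : (ZMod p)ˣ} (hm : m ≠ 1) :
    ∑ i ∈ Finset.range (p - 1), ((χ m : Rˣ) : R) ^ i = 0 := by
  refine (hχ m hm).mul_right_eq_zero.1 ?_
  rw [mul_geom_sum, chi_pow_card, sub_self]

omit hχ in
theorem sum_chi_mul_chi_inv_self {i j : ℕ} (h : i ≡ j [MOD (p - 1)]) :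
    ∑ m : (ZMod p)ˣ, ((χ m⁻¹ : Rˣ) : R) ^ j * ((χ m : Rˣ) : R) ^ i = ((p - 1 : ℕ) : R) := by
  have e : ∀ m : (ZMod p)ˣ, ((χ m⁻¹ : Rˣ) : R) ^ j * ((χ m : Rˣ) : R) ^ i = 1 := fun m => by
    rw [← Units.val_pow_eq_pow_val, ← Units.val_pow_eq_pow_val, ← Units.val_mul, ← map_pow,
      ← map_pow, ← map_mul, inv_pow]
    have : m ^ i = m ^ j := by
      rw [pow_eq_pow_iff_modEq]
      exact h.of_dvd (orderOf_dvd_of_pow_eq_one (ZMod.units_pow_card_sub_one_eq_one p m))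
    rw [this, inv_mul_cancel, map_one, Units.val_one]
  rw [Finset.sum_congr rfl (fun m _ => e m), Finset.sum_const, Finset.card_univ, ZMod.card_units,
    nsmul_eq_mul, mul_one]

end Char

section Eigen

variable {p : ℕ} [Fact p.Prime] {u : R} {χ : (ZMod p)ˣ →* Rˣ}

theorem mem_eigenAug {i : ℕ} {f : A} :
    f ∈ _root_.OortTate.eigenAug R A p χ i ↔ Bialgebra.counitAlgHom R A f = 0 ∧
      ∀ m : (ZMod p)ˣ, SGA3b.powConv R A (m : ZMod p).val f = ((χ m : Rˣ) : R) ^ i • f := by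
  simp [_root_.OortTate.eigenAug, Submodule.mem_iInf, Module.End.mem_eigenspace_iff]

theorem proj_apply (i : ℕ) (a : A) :
    _root_.OortTate.proj R A p u χ i a =
      u • ∑ m : (ZMod p)ˣ, ((χ m⁻¹ : Rˣ) : R) ^ i • SGA3b.powConv R A (m : ZMod p).val a := by
  simp [_root_.OortTate.proj]

theorem powConv_units_mul (hp : toConv (AlgHom.id R A) ^ p = 1) (m n : (ZMod p)ˣ) (a : A) :
    SGA3b.powConv R A (m : ZMod p).val (SGA3b.powConv R A (n : ZMod p).val a) =
      SGA3b.powConv R A ((m * n : (ZMod p)ˣ) : ZMod p).val a := by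
  rw [powConv_powConv, Units.val_mul, ZMod.val_mul, powConv_mod hp]

theorem powConv_units_one (a : A) :
    SGA3b.powConv R A ((1 : (ZMod p)ˣ) : ZMod p).val a = a := by
  rw [Units.val_one, ZMod.val_one, powConv_one]; rfl

theorem counit_proj (i : ℕ) {a : A} (ha : Bialgebra.counitAlgHom R A a = 0) :
    Bialgebra.counitAlgHom R A (_root_.OortTate.proj R A p u χ i a) = 0 := by
  simp [proj_apply, map_sum, counit_powConv, ha, -Bialgebra.counitAlgHom_apply]

theorem powConv_proj (hp : toConv (AlgHom.id R A) ^ p = 1) (i : ℕ) (n : (ZMod p)ˣ) (a : A) :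
    SGA3b.powConv R A (n : ZMod p).val (_root_.OortTate.proj R A p u χ i a) =
      ((χ n : Rˣ) : R) ^ i • _root_.OortTate.proj R A p u χ i a := by
  simp only [proj_apply, map_smul, map_sum, powConv_units_mul hp]
  rw [smul_comm]
  congr 1
  rw [Finset.smul_sum]
  refine Fintype.sum_equiv (Equiv.mulLeft n) _ _ fun m => ?_
  rw [Equiv.coe_mulLeft, smul_smul, ← mul_pow, ← Units.val_mul, ← map_mul]
  congr 3
  rw [mul_inv_rev, mul_left_comm, mul_inv_cancel, mul_one]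

theorem proj_mem (hp : toConv (AlgHom.id R A) ^ p = 1) (i : ℕ) {a : A}
    (ha : Bialgebra.counitAlgHom R A a = 0) :
    _root_.OortTate.proj R A p u χ i a ∈ _root_.OortTate.eigenAug R A p χ i :=
  mem_eigenAug.2 ⟨counit_proj i ha, fun n => powConv_proj hp i n a⟩

variable (hu : u * ((p - 1 : ℕ) : R) = 1)

include hu

theorem proj_of_eigen {i j : ℕ} {a : A}
    (ha : ∀ m : (ZMod p)ˣ, SGA3b.powConv R A (m : ZMod p).val a = ((χ m : Rˣ) : R) ^ i • a)
    (h : i ≡ j [MOD (p - 1)]) : _root_.OortTate.proj R A p u χ j a = a := by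
  simp only [proj_apply, ha, smul_smul, ← Finset.sum_smul]
  rw [sum_chi_mul_chi_inv_self h, hu, one_smul]

omit hu in
theorem proj_of_eigen_ne (hχ : ∀ m : (ZMod p)ˣ, m ≠ 1 → IsUnit ((χ m : R) - 1)) {i j : ℕ} {a : A}
    (ha : ∀ m : (ZMod p)ˣ, SGA3b.powConv R A (m : ZMod p).val a = ((χ m : Rˣ) : R) ^ i • a)
    (h : ¬ i ≡ j [MOD (p - 1)]) : _root_.OortTate.proj R A p u χ j a = 0 := by
  simp only [proj_apply, ha, smul_smul, ← Finset.sum_smul]
  rw [sum_chi_mul_chi_inv hχ h, mul_zero, zero_smul]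

theorem sum_proj (hχ : ∀ m : (ZMod p)ˣ, m ≠ 1 → IsUnit ((χ m : R) - 1)) (a : A) :
    ∑ i ∈ Finset.range (p - 1), _root_.OortTate.proj R A p u χ i a = a := by
  simp only [proj_apply, ← Finset.smul_sum]
  rw [Finset.sum_comm]
  simp only [← Finset.sum_smul]
  rw [Finset.sum_eq_single (1 : (ZMod p)ˣ)]
  · simp only [inv_one, map_one, Units.val_one, one_pow, Finset.sum_const, Finset.card_range,
      nsmul_eq_mul, mul_one, smul_smul, hu, one_smul]
    exact powConv_units_one a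
  · intro m _ hm
    rw [sum_range_chi hχ (fun h => hm (inv_eq_one.1 h)), zero_smul]
  · exact fun h => absurd (Finset.mem_univ _) h

theorem eigenAug_eq_map (hp : toConv (AlgHom.id R A) ^ p = 1) (i : ℕ) :
    _root_.OortTate.eigenAug R A p χ i = Submodule.map (_root_.OortTate.proj R A p u χ i)
      (LinearMap.ker (Bialgebra.counitAlgHom R A).toLinearMap) := by
  refine le_antisymm (fun f hf => ?_) ?_
  · exact ⟨f, (mem_eigenAug.1 hf).1, proj_of_eigen hu (mem_eigenAug.1 hf).2 rfl⟩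
  · rintro _ ⟨a, ha, rfl⟩
    exact proj_mem hp i ha

variable (hχ : ∀ m : (ZMod p)ˣ, m ≠ 1 → IsUnit ((χ m : R) - 1))

include hχ

theorem iSup_eigenAug (hp : toConv (AlgHom.id R A) ^ p = 1) :
    (⨆ i : Fin (p - 1), _root_.OortTate.eigenAug R A p χ (i : ℕ)) =
      LinearMap.ker (Bialgebra.counitAlgHom R A).toLinearMap := by
  refine le_antisymm (iSup_le fun i => inf_le_left) fun a ha => ?_
  rw [← sum_proj hu hχ a]
  refine Submodule.sum_mem _ fun i hi => ?_
  exact Submodule.mem_iSup_of_mem (⟨i, Finset.mem_range.1 hi⟩ : Fin (p - 1)) (proj_mem hp i ha)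

theorem iSupIndep_eigenAug :
    iSupIndep (fun i : Fin (p - 1) => _root_.OortTate.eigenAug R A p χ (i : ℕ)) := by
  intro i
  rw [Submodule.disjoint_def]
  intro x hx hx'
  have hle : (⨆ j, ⨆ (_ : j ≠ i), _root_.OortTate.eigenAug R A p χ (j : ℕ)) ≤
      LinearMap.ker (_root_.OortTate.proj R A p u χ (i : ℕ)) := by
    refine iSup₂_le fun j hj f hf => LinearMap.mem_ker.2 (proj_of_eigen_ne hχ (mem_eigenAug.1 hf).2 ?_)
    intro h
    exact hj (Fin.ext (h.eq_of_lt_of_lt j.2 i.2))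
  rw [← proj_of_eigen hu (mem_eigenAug.1 hx).2 (rfl : (i : ℕ) ≡ i [MOD (p - 1)])]
  exact hle hx'

end Eigen

end Groth.Agent.OortTate
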