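import Groth.Prelude.Def_CartDual
import Groth.Agent.OortTate.Eigen

/-!
The power maps of the Cartier dual are the transposes of the power maps.
-/

universe u

open TensorProduct WithConv

namespace Groth.Agent.OortTate

variable {R : Type u} [CommRing R] {A : Type u} [CommRing A] [HopfAlgebra R A]
  [Module.Finite R A] [Module.Projective R A]

theorem mul'_dual_apply (y : CartDual.D R A ⊗[R] CartDual.D R A) (a : A) :
    (LinearMap.mul' R (CartDual.D R A) y).ofConv a =
      CartDual.ev₂ R A y (Coalgebra.comul (R := R) a) := by
  induction y using TensorProduct.induction_on with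
  | zero => simp
  | add y z hy hz => simp only [map_add, WithConv.ofConv_add, LinearMap.add_apply, hy, hz]
  | tmul x z => rw [LinearMap.mul'_apply, CartDual.ev₂_tmul_eq']; rfl

theorem ev₂_map (f g : A →ₗ[R] A) (F G : CartDual.D R A →ₗ[R] CartDual.D R A)
    (hF : ∀ x a, (F x).ofConv a = x.ofConv (f a)) (hG : ∀ x a, (G x).ofConv a = x.ofConv (g a))
    (y : CartDual.D R A ⊗[R] CartDual.D R A) (t : A ⊗[R] A) :
    CartDual.ev₂ R A (TensorProduct.map F G y) t = CartDual.ev₂ R A y (TensorProduct.map f g t) := by
  induction y using TensorProduct.induction_on with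
  | zero => simp
  | add y z hy hz => simp only [map_add, LinearMap.add_apply, hy, hz]
  | tmul x z =>
    induction t using TensorProduct.induction_on with
    | zero => simp
    | add s t hs ht => simp only [map_add, hs, ht]
    | tmul a b =>
      rw [TensorProduct.map_tmul, TensorProduct.map_tmul, CartDual.ev₂_tmul, CartDual.ev₂_tmul]
      show (F x).ofConv a * (G z).ofConv b = _
      rw [hF, hG]

variable [Coalgebra.IsCocomm R A]

/-- The power maps of the dual are the transposes of the power maps. -/
theorem powConv_dual_apply (n : ℕ) (x : CartDual.D R A) (a : A) :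
    (SGA3b.powConv R (CartDual.D R A) n x).ofConv a = x.ofConv (SGA3b.powConv R A n a) := by
  induction n generalizing x a with
  | zero =>
    show (algebraMap R (CartDual.D R A) (Coalgebra.counit (R := R) x)).ofConv a =
      x.ofConv (algebraMap R A (Coalgebra.counit (R := R) a))
    rw [CartDual.coalgebra_counit_apply, Algebra.algebraMap_eq_smul_one,
      Algebra.algebraMap_eq_smul_one, map_smul]
    simp [LinearMap.convOne_def, mul_comm]
  | succ n ih =>
    have hD : SGA3b.powConv R (CartDual.D R A) (n + 1) x =
        LinearMap.mul' R (CartDual.D R A) (TensorProduct.map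
          (SGA3b.powConv R (CartDual.D R A) n).toLinearMap LinearMap.id
          (Coalgebra.comul (R := R) x)) := by
      show ((toConv (AlgHom.id R (CartDual.D R A))) ^ (n + 1) :
        WithConv (CartDual.D R A →ₐ[R] CartDual.D R A)).ofConv x = _
      show ((toConv (AlgHom.id R (CartDual.D R A))) ^ n *
          toConv (AlgHom.id R (CartDual.D R A)) :
            WithConv (CartDual.D R A →ₐ[R] CartDual.D R A)).ofConv x = _
      erw [AlgHom.convMul_apply]
    have hA : SGA3b.powConv R A (n + 1) a = LinearMap.mul' R A (TensorProduct.map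
          (SGA3b.powConv R A n).toLinearMap LinearMap.id (Coalgebra.comul (R := R) a)) := by
      show ((toConv (AlgHom.id R A)) ^ (n + 1)) a = _
      rw [pow_succ, AlgHom.convMul_apply]
      generalize Coalgebra.comul (R := R) a = z
      induction z using TensorProduct.induction_on with
      | zero => simp
      | add y z hy hz => simp only [map_add, hy, hz]
      | tmul y z => rfl
    rw [hD, hA, mul'_dual_apply,
      ev₂_map (SGA3b.powConv R A n).toLinearMap LinearMap.id _ _ ih (fun x a => rfl)]
    generalize TensorProduct.map (SGA3b.powConv R A n).toLinearMap LinearMap.id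
      (Coalgebra.comul (R := R) a) = t
    induction t using TensorProduct.induction_on with
    | zero => simp
    | add s t hs ht => simp only [map_add, hs, ht]
    | tmul b c => rw [LinearMap.mul'_apply]; exact CartDual.ev₂_coalgebra_comul_tmul R A x b c

variable {p : ℕ} [Fact p.Prime] {u : R} {χ : (ZMod p)ˣ →* Rˣ}

/-- The averaging operators of the dual are the transposes of the averaging operators. -/
theorem proj_dual_apply (i : ℕ) (x : CartDual.D R A) (a : A) :
    (_root_.OortTate.proj R (CartDual.D R A) p u χ i x).ofConv a =
      x.ofConv (_root_.OortTate.proj R A p u χ i a) := by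
  simp [proj_apply, powConv_dual_apply, map_sum, WithConv.ofConv_sum]

omit [Coalgebra.IsCocomm R A] [Module.Finite R A] [Module.Projective R A] in
theorem powConv_proj_comm (hp : toConv (AlgHom.id R A) ^ p = 1) (i : ℕ) (n : (ZMod p)ˣ) (a : A) :
    _root_.OortTate.proj R A p u χ i (SGA3b.powConv R A (n : ZMod p).val a) =
      SGA3b.powConv R A (n : ZMod p).val (_root_.OortTate.proj R A p u χ i a) := by
  simp only [proj_apply, map_smul, map_sum, powConv_units_mul hp, mul_comm n]

theorem dual_restrict_eigenAug_bijective (hu : u * ((p - 1 : ℕ) : R) = 1)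
    (hp : toConv (AlgHom.id R A) ^ p = 1) (i : ℕ) :
    Function.Bijective (fun f : _root_.OortTate.eigenAug R (CartDual.D R A) p χ i =>
      ((CartDual.toDual R A) (f : CartDual.D R A)).comp
        (_root_.OortTate.eigenAug R A p χ i).subtype) := by
  let ε := Bialgebra.counitAlgHom R A
  let P := _root_.OortTate.proj R A p u χ i
  let π : A →ₗ[R] A := LinearMap.id - ε.toLinearMap.smulRight (1 : A)
  have hπ : ∀ a, π a = a - ε a • (1 : A) := fun a => rfl
  have hπε : ∀ a, ε (π a) = 0 := fun a => by
    rw [hπ, map_sub, map_smul, map_one, smul_eq_mul, mul_one, sub_self]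
  have hπm : ∀ (n : (ZMod p)ˣ) a, π (SGA3b.powConv R A (n : ZMod p).val a) =
      SGA3b.powConv R A (n : ZMod p).val (π a) := fun n a => by
    rw [hπ, hπ, map_sub, map_smul, map_one, counit_powConv]
  constructor
  · intro f g h
    apply Subtype.ext; apply WithConv.ext; apply LinearMap.ext; intro a
    have key : ∀ x : _root_.OortTate.eigenAug R (CartDual.D R A) p χ i,
        (x : CartDual.D R A).ofConv a = (x : CartDual.D R A).ofConv (P (π a)) := fun x => by
      have h1 : (x : CartDual.D R A).ofConv 1 = 0 := (mem_eigenAug.1 x.2).1
      have h2 := proj_of_eigen hu (mem_eigenAug.1 x.2).2 (rfl : i ≡ i [MOD (p - 1)])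
      rw [← proj_dual_apply, h2, hπ, map_sub, map_smul, h1, smul_zero, sub_zero]
    rw [key f, key g]
    exact LinearMap.congr_fun h ⟨P (π a), proj_mem hp i (hπε a)⟩
  · intro l
    let lf : A →ₗ[R] R := l.comp ((P.comp π).codRestrict _ fun a => proj_mem hp i (hπε a))
    refine ⟨⟨toConv lf, mem_eigenAug.2 ⟨?_, fun n => ?_⟩⟩, ?_⟩
    · show l _ = 0
      rw [← map_zero l]
      congr 1
      apply Subtype.ext
      show P (π 1) = 0
      rw [hπ, map_one, one_smul, sub_self, map_zero]
    · apply WithConv.ext; apply LinearMap.ext; intro a
      rw [powConv_dual_apply, WithConv.ofConv_smul, LinearMap.smul_apply, WithConv.ofConv_toConv]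
      show l _ = _ • l _
      rw [← map_smul]
      congr 1
      apply Subtype.ext
      show P (π (SGA3b.powConv R A (n : ZMod p).val a)) = _ • P (π a)
      rw [hπm, powConv_proj_comm hp, powConv_proj hp]
    · apply LinearMap.ext
      intro a
      show l _ = l a
      congr 1
      apply Subtype.ext
      show P (π (a : A)) = a
      rw [hπ, show ε (a : A) = 0 from (mem_eigenAug.1 a.2).1, zero_smul, sub_zero]
      exact proj_of_eigen hu (mem_eigenAug.1 a.2).2 rfl

end Groth.Agent.OortTate
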