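import Groth.Agent.OortTate.Rank
import Groth.Agent.OortTate.Dual
import Mathlib

/-!
The group algebra of `ℤ/p` and its averaged generators `y_i`.
-/

universe u

open TensorProduct WithConv

namespace Groth.Agent.OortTate

variable {R : Type u} [CommRing R] {p : ℕ} [Fact p.Prime] {u : R} {χ : (ZMod p)ˣ →* Rˣ}

local notation "G" => MonoidAlgebra R (Multiplicative (ZMod p))

theorem powConv_of (n : ℕ) (g : Multiplicative (ZMod p)) :
    SGA3b.powConv R G n (MonoidAlgebra.of R _ g) = MonoidAlgebra.of R _ (g ^ n) := by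
  induction n with
  | zero =>
    show algebraMap R G (Coalgebra.counit (R := R) (MonoidAlgebra.of R _ g)) = _
    simp [MonoidAlgebra.of_apply, MonoidAlgebra.one_def]
  | succ n ih =>
    show ((toConv (AlgHom.id R G)) ^ (n + 1)).ofConv _ = _
    rw [pow_succ]
    show (_ * _ : WithConv (G →ₐ[R] G)) _ = _
    rw [AlgHom.convMul_apply, pow_succ, map_mul, ← ih]
    simp [MonoidAlgebra.of_apply, SGA3b.powConv]

theorem muT_pow (n : ℕ) :
    _root_.OortTate.muT R p ^ n =
      MonoidAlgebra.of R _ (Multiplicative.ofAdd (n : ZMod p)) := by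
  rw [← map_pow, ← ofAdd_nsmul, nsmul_one]

theorem rank_groupAlgebra (q : PrimeSpectrum R) : Module.rankAtStalk G q = p := by
  have := q.nontrivial
  rw [Module.rankAtStalk_eq_finrank_of_free,
    Module.finrank_eq_card_basis (MonoidAlgebra.basis (Multiplicative (ZMod p)) R)]
  simp

theorem counit_of (g : Multiplicative (ZMod p)) :
    Bialgebra.counitAlgHom R G (MonoidAlgebra.of R _ g) = 1 := by
  simp [MonoidAlgebra.of_apply]

theorem powConv_muT_sub_one (n : ℕ) :
    SGA3b.powConv R G n (_root_.OortTate.muT R p - 1) = _root_.OortTate.muT R p ^ n - 1 := by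
  rw [map_sub, map_one, powConv_of, map_pow]

theorem ygen_eq (i : ℕ) :
    _root_.OortTate.ygen R p u χ i = u • ∑ m : (ZMod p)ˣ,
      ((χ m⁻¹ : Rˣ) : R) ^ i • (_root_.OortTate.muT R p ^ (m : ZMod p).val - 1) := by
  show _root_.OortTate.proj R G p u χ i _ = _
  rw [proj_apply]
  simp only [powConv_muT_sub_one]

section

variable (hu : u * ((p - 1 : ℕ) : R) = 1)
  (hχ : ∀ m : (ZMod p)ˣ, m ≠ 1 → IsUnit ((χ m : R) - 1))
  (hχp : ∀ m : (ZMod p)ˣ,
    ((χ m : Rˣ) : R) - (((m : ZMod p).val : ℕ) : R) ∈ Ideal.span ({(p : R)} : Set R))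

omit [Fact p.Prime] in
theorem counit_muT_sub_one [Fact p.Prime] :
    Bialgebra.counitAlgHom R G (_root_.OortTate.muT R p - 1) = 0 := by
  rw [map_sub, counit_of, map_one, sub_self]

theorem groupAlgebra_killed : toConv (AlgHom.id R G) ^ p = 1 :=
  convPow_rank_eq_one rank_groupAlgebra

theorem ygen_mem (i : ℕ) :
    _root_.OortTate.ygen R p u χ i ∈ _root_.OortTate.eigenAug R G p χ i :=
  proj_mem groupAlgebra_killed i counit_muT_sub_one

include hu hχ

theorem span_ygen :
    Submodule.span R (Set.range fun i : Fin (p - 1) => _root_.OortTate.ygen R p u χ (i : ℕ)) =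
      LinearMap.ker (Bialgebra.counitAlgHom R G).toLinearMap := by
  have hp := groupAlgebra_killed (R := R) (p := p)
  refine le_antisymm (Submodule.span_le.2 ?_) fun f hf => ?_
  · rintro _ ⟨i, rfl⟩
    exact (mem_eigenAug.1 (ygen_mem (i : ℕ))).1
  set Y := Submodule.span R (Set.range fun i : Fin (p - 1) => _root_.OortTate.ygen R p u χ (i : ℕ))
  have hT : ∀ z : ZMod p, MonoidAlgebra.of R _ (Multiplicative.ofAdd z) - 1 ∈ Y := by
    intro z
    by_cases hz : z = 0
    · rw [hz, ofAdd_zero, map_one, sub_self]; exact Submodule.zero_mem _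
    let m := Units.mk0 z hz
    have e : MonoidAlgebra.of R _ (Multiplicative.ofAdd z) - 1 =
        SGA3b.powConv R G (m : ZMod p).val (_root_.OortTate.muT R p - 1) := by
      rw [powConv_muT_sub_one, muT_pow, ZMod.natCast_zmod_val]
      rfl
    rw [e, ← sum_proj hu hχ (SGA3b.powConv R G (m : ZMod p).val (_root_.OortTate.muT R p - 1))]
    refine Submodule.sum_mem _ fun i hi => ?_
    rw [powConv_proj_comm hp, powConv_proj hp]
    exact Submodule.smul_mem _ _ (Submodule.subset_span ⟨⟨i, Finset.mem_range.1 hi⟩, rfl⟩)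
  have key : ∀ f : G, f - Bialgebra.counitAlgHom R G f • (1 : G) ∈ Y := by
    intro f
    induction f using MonoidAlgebra.induction_on with
    | of g => rw [counit_of, one_smul]; exact hT (Multiplicative.toAdd g)
    | add a b ha hb =>
      rw [map_add, add_smul, add_sub_add_comm]; exact Submodule.add_mem _ ha hb
    | smul r a ha =>
      rw [map_smul, smul_eq_mul, mul_smul, ← smul_sub]; exact Submodule.smul_mem _ _ ha
  have h := key f
  rwa [show Bialgebra.counitAlgHom R G f = 0 from hf, zero_smul, sub_zero] at h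

theorem eigen_eq_span_ygen {i : ℕ} (hi : i < p - 1) :
    _root_.OortTate.eigenAug R G p χ i =
      Submodule.span R {_root_.OortTate.ygen R p u χ i} := by
  refine le_antisymm (fun f hf => ?_) ((Submodule.span_singleton_le_iff_mem _ _).2 (ygen_mem i))
  have hf' : f ∈ Submodule.span R
      (Set.range fun j : Fin (p - 1) => _root_.OortTate.ygen R p u χ (j : ℕ)) :=
    (span_ygen hu hχ).ge (mem_eigenAug.1 hf).1
  obtain ⟨c, hc⟩ := Submodule.mem_span_range_iff_exists_fun R |>.1 hf'
  have h := congrArg (_root_.OortTate.proj R G p u χ i) hc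
  rw [proj_of_eigen hu (mem_eigenAug.1 hf).2 rfl, map_sum,
    Finset.sum_eq_single ⟨i, hi⟩ (fun j _ hj => ?_) (fun h0 => absurd (Finset.mem_univ _) h0),
    map_smul, proj_of_eigen hu (mem_eigenAug.1 (ygen_mem i)).2 rfl] at h
  · rw [← h]; exact Submodule.smul_mem _ _ (Submodule.mem_span_singleton_self _)
  · rw [map_smul, proj_of_eigen_ne hχ (mem_eigenAug.1 (ygen_mem (j : ℕ))).2
      (fun hm => hj (Fin.ext (hm.eq_of_lt_of_lt j.2 hi))), smul_zero]

omit hu hχ in
theorem ygen_congr {i j : ℕ} (h : i ≡ j [MOD (p - 1)]) :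
    _root_.OortTate.ygen R p u χ i = _root_.OortTate.ygen R p u χ j := by
  have e : ∀ m : (ZMod p)ˣ, ((χ m : Rˣ) : R) ^ i = ((χ m : Rˣ) : R) ^ j := fun m => by
    rw [← Nat.mod_add_div i (p - 1), ← Nat.mod_add_div j (p - 1), pow_add, pow_add, pow_mul,
      pow_mul, chi_pow_card, one_pow, one_pow, show i % (p - 1) = j % (p - 1) from h]
  simp only [ygen_eq, e]

theorem eigen_eq_span_ygen' (i : ℕ) :
    _root_.OortTate.eigenAug R G p χ i =
      Submodule.span R {_root_.OortTate.ygen R p u χ i} := by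
  have hlt : i % (p - 1) < p - 1 := Nat.mod_lt _ (by have := (Fact.out : p.Prime).two_le; omega)
  rw [← eigenAug_congr (Nat.mod_modEq i (p - 1)), eigen_eq_span_ygen hu hχ hlt,
    ygen_congr (Nat.mod_modEq i (p - 1))]

include hχp

theorem eq_zero_of_smul_ygen (i : ℕ) {r : R} (h : r • _root_.OortTate.ygen R p u χ i = 0) :
    r = 0 := by
  have hp := groupAlgebra_killed (R := R) (p := p)
  obtain ⟨h1, h2⟩ := eigenAug_finite_projective (χ := χ) (A := G) hp hu i
  have hr := eigenAug_rank_one (A := G) hu hχ hχp rank_groupAlgebra i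
  refine eq_zero_of_smul_eq_zero hr fun m => ?_
  have hm : (m : G) ∈ Submodule.span R {_root_.OortTate.ygen R p u χ i} :=
    (eigen_eq_span_ygen' hu hχ i).le m.2
  obtain ⟨c, hc⟩ := Submodule.mem_span_singleton.1 hm
  apply Subtype.ext
  rw [SetLike.val_smul, ← hc, smul_comm, h, smul_zero]
  rfl

theorem exists_unit_pow {t : ℕ} (ht : 1 ≤ t) (ht' : t ≤ p - 1) :
    ∃ w : Rˣ, _root_.OortTate.ygen R p u χ 1 ^ t = (w : R) • _root_.OortTate.ygen R p u χ t := by
  have h := eigenAug_one_pow_eq (A := G) hu hχ hχp rank_groupAlgebra ht ht'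
  rw [eigen_eq_span_ygen' hu hχ, eigen_eq_span_ygen' hu hχ, Submodule.span_pow,
    Set.singleton_pow] at h
  obtain ⟨w, hw⟩ := Submodule.mem_span_singleton.1 (h.le (Submodule.mem_span_singleton_self _))
  obtain ⟨v, hv⟩ := Submodule.mem_span_singleton.1 (h.ge (Submodule.mem_span_singleton_self _))
  have hvw : v * w = 1 := sub_eq_zero.1 <| eq_zero_of_smul_ygen hu hχ hχp t <| by
    rw [sub_smul, mul_smul, hw, hv, one_smul, sub_self]
  exact ⟨Units.mkOfMulEqOne w v ((mul_comm _ _).trans hvw), hw.symm⟩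

theorem exists_pow_prime :
    ∃! w : R, _root_.OortTate.ygen R p u χ 1 ^ p = w • _root_.OortTate.ygen R p u χ 1 := by
  have hp2 := (Fact.out : p.Prime).two_le
  have h : _root_.OortTate.ygen R p u χ 1 ^ p ∈ _root_.OortTate.eigenAug R G p χ 1 := by
    have h0 := pow_mem_eigenAug (t := p) (by omega) (ygen_mem (R := R) (u := u) (χ := χ) 1)
    rwa [one_mul, eigenAug_congr (j := 1)
      ((Nat.modEq_iff_dvd' (by omega)).2 dvd_rfl).symm] at h0
  rw [eigen_eq_span_ygen' hu hχ] at h
  obtain ⟨w, hw⟩ := Submodule.mem_span_singleton.1 h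
  refine ⟨w, hw.symm, fun w' hw' => sub_eq_zero.1 (eq_zero_of_smul_ygen hu hχ hχp 1 ?_)⟩
  rw [sub_smul, hw, ← hw', sub_self]

theorem linearIndependent_ygen :
    LinearIndependent R (fun i : Fin (p - 1) => _root_.OortTate.ygen R p u χ (i : ℕ)) := by
  refine Fintype.linearIndependent_iff.2 fun c hc j => eq_zero_of_smul_ygen hu hχ hχp (j : ℕ) ?_
  have h := congrArg (_root_.OortTate.proj R G p u χ (j : ℕ)) hc
  rw [map_sum, map_zero,
    Finset.sum_eq_single j (fun k _ hk => ?_) (fun h0 => absurd (Finset.mem_univ _) h0),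
    map_smul, proj_of_eigen hu (mem_eigenAug.1 (ygen_mem (j : ℕ))).2 rfl] at h
  · exact h
  · rw [map_smul, proj_of_eigen_ne hχ (mem_eigenAug.1 (ygen_mem (k : ℕ))).2
      (fun hm => hk (Fin.ext (hm.eq_of_lt_of_lt k.2 j.2))), smul_zero]

theorem adjoin_ygen :
    Algebra.adjoin R ({_root_.OortTate.ygen R p u χ 1} : Set G) = ⊤ := by
  refine Algebra.eq_top_iff.2 fun f => ?_
  set S := Algebra.adjoin R ({_root_.OortTate.ygen R p u χ 1} : Set G)
  have hmem : ∀ i, _root_.OortTate.ygen R p u χ i ∈ S := by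
    intro i
    obtain ⟨h1, h2, h3⟩ := rep_spec (Fact.out : p.Prime).two_le i
    obtain ⟨w, hw⟩ := exists_unit_pow hu hχ hχp h1 h2
    have : _root_.OortTate.ygen R p u χ i =
        ((w⁻¹ : Rˣ) : R) • _root_.OortTate.ygen R p u χ 1 ^ rep p i := by
      rw [hw, smul_smul, Units.inv_mul, one_smul, ygen_congr h3]
    rw [this]
    exact S.smul_mem (pow_mem (Algebra.subset_adjoin (Set.mem_singleton _)) _) _
  have hf : f - algebraMap R G (Bialgebra.counitAlgHom R G f) ∈
      LinearMap.ker (Bialgebra.counitAlgHom R G).toLinearMap := by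
    rw [LinearMap.mem_ker, AlgHom.toLinearMap_apply, map_sub, AlgHom.commutes, Algebra.algebraMap_self, RingHom.id_apply, sub_self]
  rw [← span_ygen hu hχ] at hf
  have hle : Submodule.span R (Set.range fun i : Fin (p - 1) =>
      _root_.OortTate.ygen R p u χ (i : ℕ)) ≤ Subalgebra.toSubmodule S :=
    Submodule.span_le.2 (by rintro _ ⟨i, rfl⟩; exact hmem (i : ℕ))
  have h2 := S.add_mem (hle hf : f - _ ∈ S) (S.algebraMap_mem (Bialgebra.counitAlgHom R G f))
  rwa [sub_add_cancel] at h2

end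

end Groth.Agent.OortTate
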