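import Groth.Agent.OortTate.Comm
import Mathlib

/-!
Deligne's theorem for cocommutative free Hopf algebras and the structure of Hopf algebras of prime rank.
-/

universe u v w

open TensorProduct WithConv Groth.Sga3.HopfFin

namespace Groth.Agent.OortTate

section Deligne

variable {R : Type u} [CommRing R] {A : Type v} [CommRing A] [HopfAlgebra R A]
  [Coalgebra.IsCocomm R A]

/-- Deligne: a free cocommutative commutative Hopf algebra is killed by its rank. -/
theorem convPow_card_eq_one {ι : Type*} [Fintype ι] (e : Module.Basis ι R A) :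
    toConv (AlgHom.id R A) ^ Fintype.card ι = 1 := by
  classical
  let C := WithConv (A →ₗ[R] A)
  let C' := WithConv (A →ₗ[R] A ⊗[R] A)
  let inc : A →ₐ[R] A ⊗[R] A := Algebra.TensorProduct.includeLeft
  letI : Algebra C C' := (push inc).toAlgebra
  have hsmul : ∀ (g : C) (h : C'), g • h = push inc g * h := fun g h => rfl
  let β : ι → C' := fun i => toConv (Coalgebra.counit.smulRight ((1 : A) ⊗ₜ[R] e i))
  have hone : ∀ i, β i = algebraMap (A ⊗[R] A) C' ((1 : A) ⊗ₜ[R] e i) := fun i => by
    apply WithConv.ofConv_injective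
    ext a
    show Coalgebra.counit (R := R) a • ((1 : A) ⊗ₜ[R] e i) =
      ((1 : A) ⊗ₜ[R] e i) • algebraMap R (A ⊗[R] A) (Coalgebra.counit a)
    rw [smul_eq_mul, Algebra.algebraMap_eq_smul_one, mul_smul_comm, mul_one]
  have hval : ∀ (g : C) (i : ι) (a : A), (g • β i).ofConv a = g.ofConv a ⊗ₜ[R] e i := fun g i a => by
    rw [hsmul, hone, ← Algebra.commutes, ← Algebra.smul_def]
    show ((1 : A) ⊗ₜ[R] e i) • inc (g.ofConv a) = _
    rw [smul_eq_mul]
    simp [inc]
  let co : ι → A ⊗[R] A →ₗ[R] A := fun i =>
    (TensorProduct.rid R A).toLinearMap ∘ₗ (e.coord i).lTensor A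
  have hsum : ∀ z : A ⊗[R] A, ∑ i, co i z ⊗ₜ[R] e i = z := fun z => by
    induction z with
    | zero => simp
    | add x y hx hy => simp only [map_add, TensorProduct.add_tmul, Finset.sum_add_distrib, hx, hy]
    | tmul x y =>
      simp only [co, LinearMap.comp_apply, LinearMap.lTensor_tmul, LinearEquiv.coe_coe,
        TensorProduct.rid_tmul, TensorProduct.smul_tmul, ← TensorProduct.tmul_sum,
        Module.Basis.coord_apply, e.sum_repr]
  have hco : ∀ (j i : ι) (x : A), co j (x ⊗ₜ[R] e i) = if i = j then x else 0 := fun j i x => by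
    simp only [co, LinearMap.comp_apply, LinearMap.lTensor_tmul, LinearEquiv.coe_coe,
      TensorProduct.rid_tmul, Module.Basis.coord_apply, e.repr_self, Finsupp.single_apply]
    split <;> simp
  let ev : A → C' →+ A ⊗[R] A := fun a =>
    { toFun := fun h => h.ofConv a, map_zero' := rfl, map_add' := fun _ _ => rfl }
  have hev : ∀ (a : A) (g : ι → C), (∑ i, g i • β i).ofConv a = ∑ i, (g i).ofConv a ⊗ₜ[R] e i :=
    fun a g => by
      show ev a _ = _
      rw [map_sum]
      exact Finset.sum_congr rfl fun i _ => hval _ _ _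
  have hli : LinearIndependent C β := by
    refine Fintype.linearIndependent_iff.2 fun g hg j => ?_
    apply WithConv.ofConv_injective
    apply LinearMap.ext
    intro a
    have := congrArg (fun h : C' => co j (h.ofConv a)) hg
    simpa [hev, map_sum, hco] using this
  have hsp : ⊤ ≤ Submodule.span C (Set.range β) := by
    intro f _
    rw [Submodule.mem_span_range_iff_exists_fun]
    refine ⟨fun i => toConv (co i ∘ₗ f.ofConv), ?_⟩
    apply WithConv.ofConv_injective
    apply LinearMap.ext
    intro a
    rw [hev]
    exact hsum _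
  let bas : Module.Basis ι C C' := Module.Basis.mk hli hsp
  -- translation by the universal point
  let uu : WithConv (A →ₐ[R] A ⊗[R] A) := toConv inc
  let δ : WithConv (A →ₐ[R] A ⊗[R] A) := toConv Algebra.TensorProduct.includeRight
  obtain ⟨v, hv1, hv2⟩ : ∃ v, v * uu = 1 ∧ uu * v = 1 :=
    ⟨uu⁻¹, inv_mul_cancel uu, mul_inv_cancel uu⟩
  let T : A ⊗[R] A →ₐ[R] A ⊗[R] A :=
    Algebra.TensorProduct.lift inc (uu * δ).ofConv fun _ _ => .all ..
  let T' : A ⊗[R] A →ₐ[R] A ⊗[R] A :=
    Algebra.TensorProduct.lift inc (v * δ).ofConv fun _ _ => .all ..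
  have hTu : postComp T uu = uu := by
    apply WithConv.ofConv_injective; ext a; simp [postComp, T, uu, inc]
  have hT'u : postComp T' uu = uu := by
    apply WithConv.ofConv_injective; ext a; simp [postComp, T', uu, inc]
  have hTδ : postComp T δ = uu * δ := by
    apply WithConv.ofConv_injective; ext a; simp [postComp, T, δ]
  have hT'δ : postComp T' δ = v * δ := by
    apply WithConv.ofConv_injective; ext a; simp [postComp, T', δ]
  have hinv : postComp T v = v := by
    rw [← mul_one (postComp T v), ← hv2, ← mul_assoc, ← congrArg (postComp T v * ·) hTu,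
      ← map_mul, hv1, map_one, one_mul]
  have hext : ∀ F : A ⊗[R] A →ₐ[R] A ⊗[R] A, postComp F uu = uu → postComp F δ = δ →
      F = AlgHom.id R _ := fun F h1 h2 =>
    Algebra.TensorProduct.ext (congrArg WithConv.ofConv h1) (congrArg WithConv.ofConv h2)
  have hcomp : ∀ (F G : A ⊗[R] A →ₐ[R] A ⊗[R] A) (h : WithConv (A →ₐ[R] A ⊗[R] A)),
      postComp (F.comp G) h = postComp F (postComp G h) := fun F G h => rfl
  have h1 : T'.comp T = AlgHom.id R _ := hext _ (by rw [hcomp, hTu, hT'u]) (by
    rw [hcomp, hTδ, map_mul, hT'u, hT'δ, ← mul_assoc, hv2, one_mul])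
  have h2 : T.comp T' = AlgHom.id R _ := hext _ (by rw [hcomp, hT'u, hTu]) (by
    rw [hcomp, hT'δ, map_mul, hinv, hTδ, ← mul_assoc, hv1, one_mul])
  let τ : C' ≃ₐ[C] C' :=
    { toFun := push T
      invFun := push T'
      left_inv := fun h => by
        apply WithConv.ofConv_injective; ext a
        exact congrArg (fun F : A ⊗[R] A →ₐ[R] A ⊗[R] A => F (h.ofConv a)) h1
      right_inv := fun h => by
        apply WithConv.ofConv_injective; ext a
        exact congrArg (fun F : A ⊗[R] A →ₐ[R] A ⊗[R] A => F (h.ofConv a)) h2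
      map_mul' := map_mul _
      map_add' := map_add _
      commutes' := fun g => by
        apply WithConv.ofConv_injective; ext a
        simp [RingHom.algebraMap_toAlgebra, T, push, inc] }
  let lin : WithConv (A →ₐ[R] A ⊗[R] A) →* C' :=
    { toFun := fun h => toConv h.ofConv.toLinearMap
      map_one' := AlgHom.toLinearMap_convOne
      map_mul' := AlgHom.toLinearMap_convMul }
  let idC : C := toConv LinearMap.id
  have hN : Algebra.norm C (lin (uu * δ)) = Algebra.norm C (lin δ) := by
    rw [← Algebra.norm_eq_of_algEquiv τ (lin δ), ← hTδ]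
    rfl
  have hidu : lin uu = algebraMap C C' idC := rfl
  rw [map_mul, map_mul, hidu, Algebra.norm_algebraMap_of_basis bas] at hN
  have hunit : IsUnit (Algebra.norm C (lin δ)) := ((Group.isUnit δ).map lin).map _
  have hpow : idC ^ Fintype.card ι = 1 := IsUnit.mul_right_cancel hunit (hN.trans (one_mul _).symm)
  apply WithConv.ofConv_injective
  apply AlgHom.toLinearMap_injective
  apply WithConv.toConv_injective
  rw [AlgHom.toLinearMap_convPow, AlgHom.toLinearMap_convOne]
  exact hpow

end Deligne

section Global

/-- A finite projective Hopf algebra with commutative convolution dual is cocommutative. -/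
theorem isCocomm_of_dual_mul_comm {R : Type u} [CommRing R] {A : Type v} [CommRing A]
    [HopfAlgebra R A] [Module.Finite R A] [Module.Projective R A]
    (h : ∀ f g : CartDual.D R A, f * g = g * f) : Coalgebra.IsCocomm R A := by
  constructor
  apply LinearMap.ext
  intro a
  rw [← sub_eq_zero]
  refine (Module.forall_dual_apply_eq_zero_iff R _).1 fun φ => ?_
  obtain ⟨y, rfl⟩ := (CartDual.ev₂ R A).surjective φ
  rw [map_sub, sub_eq_zero]
  have key : ∀ (y : CartDual.D R A ⊗[R] CartDual.D R A) (z : A ⊗[R] A),
      CartDual.ev₂ R A y (TensorProduct.comm R A A z) =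
        CartDual.ev₂ R A (TensorProduct.comm R _ _ y) z := by
    intro y z
    induction z with
    | zero => simp
    | add s t hs ht => simp only [map_add, hs, ht]
    | tmul b c => rw [TensorProduct.comm_tmul, CartDual.ev₂_comm]
  rw [LinearMap.comp_apply, LinearEquiv.coe_coe, key]
  induction y with
  | zero => simp
  | add s t hs ht => simp only [map_add, LinearMap.add_apply, hs, ht]
  | tmul x z =>
    rw [TensorProduct.comm_tmul]
    have := congrArg (fun k : CartDual.D R A => k.ofConv a) (h z x)
    simpa [LinearMap.convMul_apply, CartDual.ev₂_tmul_eq'] using this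

/-- A finite projective cocommutative Hopf algebra of constant rank is killed by its rank. -/
theorem convPow_rank_eq_one {R : Type u} [CommRing R] {A : Type v} [CommRing A] [HopfAlgebra R A]
    [Coalgebra.IsCocomm R A] [Module.Finite R A] [Module.Projective R A] {n : ℕ}
    (hrk : ∀ q : PrimeSpectrum R, Module.rankAtStalk A q = n) :
    toConv (AlgHom.id R A) ^ n = 1 := by
  apply WithConv.ofConv_injective
  apply AlgHom.ext
  intro a
  rw [← sub_eq_zero]
  refine (Module.forall_dual_apply_eq_zero_iff R _).1 fun φ => ?_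
  refine eq_zero_of_localization _ fun J hJ => ?_
  let S := Localization.AtPrime J
  obtain ⟨hfree, hdim⟩ := free_finrank_baseChange (A := A) hrk S
  have h := convPow_card_eq_one (A := S ⊗[R] A) (Module.finBasisOfFinrankEq S (S ⊗[R] A) hdim)
  rw [Fintype.card_fin] at h
  let ι : A →ₐ[R] S ⊗[R] A := Algebra.TensorProduct.includeRight
  have h3 : ι ((toConv (AlgHom.id R A) ^ n).ofConv a - (1 : WithConv (A →ₐ[R] A)).ofConv a) = 0 := by
    rw [map_sub, sub_eq_zero]
    exact restrict_pow_eq_one S h a
  set c := (toConv (AlgHom.id R A) ^ n).ofConv a - (1 : WithConv (A →ₐ[R] A)).ofConv a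
  have h4 := congrArg (fun z => TensorProduct.rid R S (φ.lTensor S z)) h3
  simpa [ι, Algebra.smul_def] using h4

variable {R : Type u} [CommRing R] {p : ℕ} [Fact p.Prime]

theorem dual_mul_comm_aux {A : Type u} [CommRing A] [HopfAlgebra R A]
    [Module.Finite R A] [Module.Projective R A]
    (hrk : ∀ q : PrimeSpectrum R, Module.rankAtStalk A q = p)
    (f g : CartDual.D R A) : f * g = g * f := by
  apply WithConv.ofConv_injective
  apply LinearMap.ext
  intro a
  rw [← sub_eq_zero]
  refine eq_zero_of_localization _ fun J hJ => ?_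
  let S := Localization.AtPrime J
  have h := mul_comm_push (S := S) hrk (push (Algebra.ofId R S) f) (push (Algebra.ofId R S) g)
  rw [← map_mul, ← map_mul] at h
  have h2 := congrArg (fun k : WithConv (A →ₗ[R] S) => k.ofConv a) h
  rw [map_sub, sub_eq_zero]
  exact h2

/-- A Hopf algebra of prime rank over any ring is cocommutative. -/
theorem isCocomm_of_rank {A : Type v} [CommRing A] [HopfAlgebra R A]
    [Module.Finite R A] [Module.Projective R A]
    (hrk : ∀ q : PrimeSpectrum R, Module.rankAtStalk A q = p) : Coalgebra.IsCocomm R A := by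
  refine isCocomm_of_dual_mul_comm fun f g => ?_
  let S := ULift.{v} R
  let j : R →ₐ[R] S := Algebra.ofId R S
  let r := resEquiv (R := R) (A := A) S S
  have hrk' : ∀ q : PrimeSpectrum S, Module.rankAtStalk (S ⊗[R] A) q = p := fun q => by
    exact (Module.rankAtStalk_baseChange (R := R) (M := A) q).trans (hrk _)
  have h := congrArg r (dual_mul_comm_aux hrk' (r.symm (push j f)) (r.symm (push j g)))
  rw [map_mul, map_mul, r.apply_symm_apply, r.apply_symm_apply, ← map_mul, ← map_mul] at h
  apply WithConv.ofConv_injective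
  apply LinearMap.ext
  intro a
  exact congrArg ULift.down (congrArg (fun k : WithConv (A →ₗ[R] S) => k.ofConv a) h)

end Global

end Groth.Agent.OortTate
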