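import Mathlib

/-!
Hopf algebras whose augmentation ideal is free of rank one (group schemes of order two).
-/

universe u v

open TensorProduct

namespace Groth.Agent.OortTate.OrderTwo

variable {R : Type u} [CommRing R] {A : Type v} [CommRing A] [Bialgebra R A] {x : A}

theorem smul_inj (hfree : ∀ r : R, r • x = 0 → r = 0) {r s : R} (h : r • x = s • x) : r = s :=
  sub_eq_zero.1 (hfree _ (by rw [sub_smul, h, sub_self]))

theorem exists_coord (hx : Bialgebra.counitAlgHom R A x = 0)
    (hgen : ∀ f : A, Bialgebra.counitAlgHom R A f = 0 → ∃ r : R, f = r • x)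
    (hfree : ∀ r : R, r • x = 0 → r = 0) :
    ∃ c : A →ₗ[R] R, c 1 = 0 ∧ c x = 1 ∧
      ∀ f, f = (Bialgebra.counitAlgHom R A f) • (1 : A) + c f • x := by
  have h0 : ∀ f : A, ∃ r : R, f - (Bialgebra.counitAlgHom R A f) • (1 : A) = r • x := fun f =>
    hgen _ (by rw [map_sub, map_smul, map_one, smul_eq_mul, mul_one, sub_self])
  choose c hc using h0
  refine ⟨{ toFun := c, map_add' := ?_, map_smul' := ?_ }, ?_, ?_, ?_⟩
  · intro f g; apply smul_inj hfree
    rw [← hc, add_smul, ← hc, ← hc, map_add, add_smul]; abel
  · intro r f; apply smul_inj hfree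
    rw [← hc, RingHom.id_apply, smul_eq_mul, mul_smul, ← hc, map_smul, smul_sub, smul_eq_mul,
      mul_smul]
  · apply smul_inj hfree
    show c 1 • x = _
    rw [← hc]; simp
  · apply smul_inj hfree
    show c x • x = _
    rw [← hc, hx]; simp
  · intro f; simp only [LinearMap.coe_mk, AddHom.coe_mk]; rw [← hc]; abel

theorem tensor_decomp (c : A →ₗ[R] R)
    (hc : ∀ f, f = (Bialgebra.counitAlgHom R A f) • (1 : A) + c f • x) (s : A ⊗[R] A) :
    s = (1 : A) ⊗ₜ[R] (TensorProduct.lid R A ((Coalgebra.counit (R := R) (A := A)).rTensor A s)) +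
        (TensorProduct.rid R A ((Coalgebra.counit (R := R) (A := A)).lTensor A s)) ⊗ₜ[R] (1 : A) -
        (LinearMap.mul' R R (TensorProduct.map Coalgebra.counit Coalgebra.counit s)) •
          ((1 : A) ⊗ₜ[R] (1 : A)) +
        (LinearMap.mul' R R (TensorProduct.map c c s)) • (x ⊗ₜ[R] x) := by
  induction s using TensorProduct.induction_on with
  | zero => simp
  | add s t hs ht =>
    conv_lhs => rw [hs, ht]
    simp only [map_add, tmul_add, add_tmul, add_smul]
    abel
  | tmul a b =>
    simp only [LinearMap.rTensor_tmul, LinearMap.lTensor_tmul, TensorProduct.lid_tmul,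
      TensorProduct.rid_tmul, TensorProduct.map_tmul, LinearMap.mul'_apply]
    have ha := hc a
    have hb := hc b
    simp only [Bialgebra.counitAlgHom_apply] at ha hb
    generalize (Coalgebra.counit (R := R) a) = ea at *
    generalize (Coalgebra.counit (R := R) b) = eb at *
    generalize c a = ca at *
    generalize c b = cb at *
    subst ha hb
    simp only [tmul_add, add_tmul, ← smul_tmul', tmul_smul, smul_add, smul_smul]
    module

end Groth.Agent.OortTate.OrderTwo
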