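import Groth.Agent.OortTate.GroupAlg
import Mathlib

/-!
The Cartier pairing seen in the convolution algebra `End_R(A)`: the power formula for the projector
onto `I₁`, and the product formula for the pairing of `I₁(A^D)` with `I₁(A)`.
-/

universe u

open TensorProduct WithConv

namespace Groth.Agent.OortTate

variable {R : Type u} [CommRing R] {A : Type u} [CommRing A] [HopfAlgebra R A]

/-- The rank one endomorphism `c ↦ ψ(c) a` in the convolution algebra. -/
noncomputable def smR (ψ : WithConv (A →ₗ[R] R)) (a : A) : WithConv (A →ₗ[R] A) :=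
  toConv (ψ.ofConv.smulRight a)

theorem smR_apply (ψ : WithConv (A →ₗ[R] R)) (a c : A) : (smR ψ a).ofConv c = ψ.ofConv c • a := rfl

theorem smR_mul (ψ ψ' : WithConv (A →ₗ[R] R)) (a a' : A) :
    smR ψ a * smR ψ' a' = smR (ψ * ψ') (a * a') := by
  apply WithConv.ofConv_injective
  apply LinearMap.ext
  intro c
  show (smR ψ a * smR ψ' a') c = (ψ * ψ') c • (a * a')
  rw [LinearMap.convMul_apply, LinearMap.convMul_apply]
  generalize Coalgebra.comul (R := R) c = z
  induction z with
  | zero => simp
  | add x y hx hy => simp only [map_add, hx, hy, add_smul]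
  | tmul x y => simp [smR]; rw [smul_smul, mul_comm]

theorem smR_one : smR (1 : WithConv (A →ₗ[R] R)) (1 : A) = 1 := by
  apply WithConv.ofConv_injective
  apply LinearMap.ext
  intro c
  simp [smR_apply, Algebra.algebraMap_eq_smul_one]

variable [Coalgebra.IsCocomm R A]

/-- `smR` as a monoid hom. -/
noncomputable def smRHom : WithConv (A →ₗ[R] R) × A →* WithConv (A →ₗ[R] A) where
  toFun x := smR x.1 x.2
  map_one' := smR_one
  map_mul' x y := (smR_mul x.1 y.1 x.2 y.2).symm

theorem prod_smR {ι : Type*} (s : Finset ι) (ψ : ι → WithConv (A →ₗ[R] R)) (a : ι → A) :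
    ∏ i ∈ s, smR (ψ i) (a i) = smR (∏ i ∈ s, ψ i) (∏ i ∈ s, a i) := by
  have h := map_prod (smRHom (R := R) (A := A)) (fun i => (ψ i, a i)) s
  rw [show ∏ i ∈ s, (ψ i, a i) = (∏ i ∈ s, ψ i, ∏ i ∈ s, a i) from
    Prod.ext Prod.fst_prod Prod.snd_prod] at h
  exact h.symm

variable [Module.Finite R A] [Module.Projective R A] {p : ℕ} [Fact p.Prime] {u : R}
  {χ : (ZMod p)ˣ →* Rˣ}

/-- The projector onto `I_i`, in the convolution algebra. -/
noncomputable def E (hp : toConv (AlgHom.id R A) ^ p = 1) (u : R) (χ : (ZMod p)ˣ →* Rˣ) (i : ℕ) :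
    WithConv (A →ₗ[R] A) :=
  toConv ((_root_.OortTate.eigenAug R A p χ i).subtype ∘ₗ eigenProj hp u χ i)

omit [Module.Finite R A] [Module.Projective R A] [Coalgebra.IsCocomm R A] in
theorem E_apply (hp : toConv (AlgHom.id R A) ^ p = 1) (i : ℕ) (b : A) :
    (E hp u χ i).ofConv b = (eigenProj hp u χ i b : A) := rfl

/-- The algebra map from the group algebra of `ℤ/p` to the convolution algebra, `T ↦ id`. -/
noncomputable def Lam (hp : toConv (AlgHom.id R A) ^ p = 1) :
    MonoidAlgebra R (Multiplicative (ZMod p)) →ₐ[R] WithConv (A →ₗ[R] A) :=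
  MonoidAlgebra.lift R (WithConv (A →ₗ[R] A)) (Multiplicative (ZMod p))
    { toFun := fun g => toConv (SGA3b.powConv R A (Multiplicative.toAdd g).val).toLinearMap
      map_one' := by
        rw [toAdd_one, ZMod.val_zero]
        exact AlgHom.toLinearMap_convOne
      map_mul' := fun g h => by
        rw [toAdd_mul, ZMod.val_add, powConv_mod hp]
        show toConv ((toConv (AlgHom.id R A)) ^ _).ofConv.toLinearMap = _
        rw [pow_add, AlgHom.toLinearMap_convMul]
        rfl }

omit [Module.Finite R A] [Module.Projective R A] in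
theorem Lam_muT_pow (hp : toConv (AlgHom.id R A) ^ p = 1) (n : ℕ) :
    Lam hp (_root_.OortTate.muT R p ^ n) = toConv (SGA3b.powConv R A n).toLinearMap := by
  rw [muT_pow, Lam, MonoidAlgebra.lift_of]
  show toConv (SGA3b.powConv R A (n : ZMod p).val).toLinearMap = _
  rw [ZMod.val_natCast, powConv_mod hp]

omit [Module.Finite R A] [Module.Projective R A] in
theorem Lam_ygen (hp : toConv (AlgHom.id R A) ^ p = 1) (i : ℕ) :
    Lam hp (_root_.OortTate.ygen R p u χ i) = E hp u χ i := by
  rw [ygen_eq]
  simp only [map_smul, map_sum, map_sub, map_one, Lam_muT_pow]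
  apply WithConv.ofConv_injective
  apply LinearMap.ext
  intro b
  rw [E_apply, coe_eigenProj, proj_apply]
  simp only [WithConv.ofConv_smul, WithConv.ofConv_sum, WithConv.ofConv_sub, LinearMap.smul_apply,
    LinearMap.sum_apply, LinearMap.sub_apply, AlgHom.toLinearMap_apply, map_sub, map_smul, map_one,
    LinearMap.convOne_apply, Algebra.algebraMap_eq_smul_one, Bialgebra.counitAlgHom_apply]

theorem E_pow (hp : toConv (AlgHom.id R A) ^ p = 1) {t : ℕ} {w : R}
    (hw : _root_.OortTate.ygen R p u χ 1 ^ t = w • _root_.OortTate.ygen R p u χ t) :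
    E hp u χ 1 ^ t = w • E hp u χ t := by
  have h := congrArg (Lam (A := A) hp) hw
  rwa [map_pow, map_smul, Lam_ygen, Lam_ygen] at h

variable (hu : u * ((p - 1 : ℕ) : R) = 1)
  (hχ : ∀ m : (ZMod p)ˣ, m ≠ 1 → IsUnit ((χ m : R) - 1))
  (hχp : ∀ m : (ZMod p)ˣ,
    ((χ m : Rˣ) : R) - (((m : ZMod p).val : ℕ) : R) ∈ Ideal.span ({(p : R)} : Set R))
  (hrk : ∀ q : PrimeSpectrum R, Module.rankAtStalk A q = p)

include hu in
theorem dual_eq_comp_E (hp : toConv (AlgHom.id R A) ^ p = 1) (i : ℕ) {ψ : CartDual.D R A}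
    (hψ : ψ ∈ _root_.OortTate.eigenAug R (CartDual.D R A) p χ i) (b : A) :
    ψ.ofConv b = ψ.ofConv ((E hp u χ i).ofConv b) := by
  have h1 : ψ.ofConv 1 = 0 := (mem_eigenAug.1 hψ).1
  have h2 := proj_of_eigen hu (mem_eigenAug.1 hψ).2 (rfl : i ≡ i [MOD (p - 1)])
  rw [E_apply, coe_eigenProj, ← proj_dual_apply, h2, map_sub, map_smul, h1, smul_zero, sub_zero]

include hu hχ hχp hrk

theorem smR_eq_smul_E (hp : toConv (AlgHom.id R A) ^ p = 1) {ψ : CartDual.D R A}
    (hψ : ψ ∈ _root_.OortTate.eigenAug R (CartDual.D R A) p χ 1) {y : A}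
    (hy : y ∈ _root_.OortTate.eigenAug R A p χ 1) : smR ψ y = ψ.ofConv y • E hp u χ 1 := by
  obtain ⟨h1, h2⟩ := eigenAug_finite_projective (χ := χ) hp hu 1
  apply WithConv.ofConv_injective
  apply LinearMap.ext
  intro b
  have h := smul_comm_of_rank_one (eigenAug_rank_one hu hχ hχp hrk 1)
    (ψ.ofConv ∘ₗ (_root_.OortTate.eigenAug R A p χ 1).subtype) (eigenProj hp u χ 1 b) ⟨y, hy⟩
  have h' := congrArg Subtype.val h
  simp only [SetLike.val_smul, LinearMap.comp_apply, Submodule.subtype_apply] at h'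
  rw [smR_apply, dual_eq_comp_E hu hp 1 hψ, E_apply, h']
  rfl

omit hu hχ hχp hrk [Coalgebra.IsCocomm R A] [Module.Finite R A] [Module.Projective R A] in
theorem prod_mem_eigenAug {t : ℕ} (ht : 1 ≤ t) (a : Fin t → A)
    (ha : ∀ i, a i ∈ _root_.OortTate.eigenAug R A p χ 1) :
    ∏ i, a i ∈ _root_.OortTate.eigenAug R A p χ t := by
  refine eigenAug_one_pow_le ht ?_
  rw [← List.prod_ofFn, Submodule.pow_eq_span_pow_set]
  exact Submodule.subset_span (Set.mem_pow.2 ⟨fun i => ⟨a i, ha i⟩, rfl⟩)

/-- The product formula for the pairing. -/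
theorem pairing_prod {t : ℕ} (ht : 1 ≤ t) {w : R}
    (hw : _root_.OortTate.ygen R p u χ 1 ^ t = w • _root_.OortTate.ygen R p u χ t)
    (ψ : Fin t → CartDual.D R A)
    (hψ : ∀ i, ψ i ∈ _root_.OortTate.eigenAug R (CartDual.D R A) p χ 1)
    (a : Fin t → A) (ha : ∀ i, a i ∈ _root_.OortTate.eigenAug R A p χ 1) :
    (∏ i, ψ i).ofConv (∏ i, a i) = w * ∏ i, (ψ i).ofConv (a i) := by
  have hp := convPow_rank_eq_one hrk
  obtain ⟨h1, h2⟩ := eigenAug_finite_projective (χ := χ) hp hu t
  have hr := eigenAug_rank_one hu hχ hχp hrk t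
  set c : _root_.OortTate.eigenAug R A p χ t := ⟨∏ i, a i, prod_mem_eigenAug ht a ha⟩
  set f := (∏ i, ψ i).ofConv ∘ₗ (_root_.OortTate.eigenAug R A p χ t).subtype
  refine sub_eq_zero.1 (eq_zero_of_smul_eq_zero hr fun b => ?_)
  have key : (∏ i, ψ i).ofConv (b : A) • (∏ i, a i) =
      (w * ∏ i, (ψ i).ofConv (a i)) • (b : A) := by
    have e : ∏ i, smR (ψ i) (a i) = (w * ∏ i, (ψ i).ofConv (a i)) • E hp u χ t := by
      simp only [fun i => smR_eq_smul_E hu hχ hχp hrk hp (hψ i) (ha i)]
      rw [Finset.prod_smul, Finset.prod_const, Finset.card_univ, Fintype.card_fin, E_pow hp hw,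
        smul_smul, mul_comm]
    rw [prod_smR] at e
    have e2 := congrArg (fun g : WithConv (A →ₗ[R] A) => g.ofConv (b : A)) e
    simp only [smR_apply, WithConv.ofConv_smul, LinearMap.smul_apply, E_apply,
      eigenProj_coe hp hu] at e2
    exact e2
  have h := congrArg Subtype.val (smul_comm_of_rank_one hr f b c)
  simp only [SetLike.val_smul, f, LinearMap.comp_apply, Submodule.subtype_apply] at h
  apply Subtype.ext
  rw [SetLike.val_smul, sub_smul, ← key]
  simp only [c] at h
  rw [h, sub_self]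
  rfl

omit hu hχ hχp hrk [Fact p.Prime] in
/-- `a ↦ (c ↦ ε(c) a)`. -/
noncomputable def smRLeft : A →ₐ[R] WithConv (A →ₗ[R] A) :=
  AlgHom.ofLinearMap
    { toFun := fun a => smR (1 : WithConv (A →ₗ[R] R)) a
      map_add' := fun a b => WithConv.ofConv_injective (LinearMap.ext fun c => smul_add _ _ _)
      map_smul' := fun r a => WithConv.ofConv_injective (LinearMap.ext fun c => smul_comm _ _ _) }
    smR_one
    (fun a b => by
      show smR 1 (a * b) = smR 1 a * smR 1 b
      rw [smR_mul, one_mul])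

omit hu hχ hχp hrk [Fact p.Prime] in
/-- `ψ ↦ (c ↦ ψ(c) 1)`. -/
noncomputable def smRRight : CartDual.D R A →ₐ[R] WithConv (A →ₗ[R] A) :=
  AlgHom.ofLinearMap
    { toFun := fun ψ => smR ψ (1 : A)
      map_add' := fun a b => WithConv.ofConv_injective (LinearMap.ext fun c => add_smul _ _ _)
      map_smul' := fun r a => WithConv.ofConv_injective (LinearMap.ext fun c => mul_smul _ _ _) }
    smR_one
    (fun a b => by
      show smR (a * b) 1 = smR a 1 * smR b 1
      rw [smR_mul, one_mul])

omit hu hχ hχp hrk [Fact p.Prime] in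
/-- `A ⊗ A^D → End_R(A)` as an algebra map. -/
noncomputable def theta : A ⊗[R] CartDual.D R A →ₐ[R] WithConv (A →ₗ[R] A) :=
  Algebra.TensorProduct.lift smRLeft smRRight fun _ _ => .all ..

omit hu hχ hχp hrk [Fact p.Prime] in
theorem theta_tmul (a : A) (ψ : CartDual.D R A) : theta (a ⊗ₜ[R] ψ) = smR ψ a := by
  rw [theta, Algebra.TensorProduct.lift_tmul]
  show smR 1 a * smR ψ 1 = _
  rw [smR_mul, one_mul, mul_one]

omit hu hχ hχp hrk [Fact p.Prime] in
theorem theta_injective : Function.Injective (theta (R := R) (A := A)) := by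
  obtain ⟨n, x, φ, hφ⟩ := exists_dual_family (R := R) (M := A)
  refine Function.LeftInverse.injective
    (g := fun c : WithConv (A →ₗ[R] A) => ∑ k, c.ofConv (x k) ⊗ₜ[R] (toConv (φ k) : CartDual.D R A))
    fun z => ?_
  induction z using TensorProduct.induction_on with
  | zero => simp
  | add y z hy hz =>
    simp only [map_add, WithConv.ofConv_add, LinearMap.add_apply, TensorProduct.add_tmul,
      Finset.sum_add_distrib] at hy hz ⊢
    rw [hy, hz]
  | tmul a ψ =>
    simp only [theta_tmul, smR_apply, TensorProduct.smul_tmul, ← TensorProduct.tmul_sum]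
    congr 1
    apply WithConv.ofConv_injective
    apply LinearMap.ext
    intro b
    simp only [WithConv.ofConv_sum, WithConv.ofConv_smul, LinearMap.sum_apply, LinearMap.smul_apply,
      smul_eq_mul]
    conv_rhs => rw [← hφ b, map_sum]
    simp only [map_smul, smul_eq_mul, mul_comm]

/-- The image of `y₁` under the pairing. -/
theorem pairing_ygen (δ : A ⊗[R] CartDual.D R A)
    (hδ : ∀ a : A, TensorProduct.rid R A
      (LinearMap.lTensor A ((Module.Dual.eval R A a) ∘ₗ (CartDual.toDual R A).toLinearMap) δ) = a)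
    (ϕ : MonoidAlgebra R (Multiplicative (ZMod p)) →ₐ[R] A ⊗[R] CartDual.D R A)
    (hϕ : ϕ (_root_.OortTate.muT R p) = δ) :
    Submodule.span R {ϕ (_root_.OortTate.ygen R p u χ 1)} =
        LinearMap.range (TensorProduct.map (_root_.OortTate.eigenAug R A p χ 1).subtype
          (_root_.OortTate.eigenAug R (CartDual.D R A) p χ 1).subtype) ∧
      ∀ r : R, r • ϕ (_root_.OortTate.ygen R p u χ 1) = 0 → r = 0 := by
  have hp := convPow_rank_eq_one hrk
  obtain ⟨hf1, hpr1⟩ := eigenAug_finite_projective (χ := χ) hp hu 1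
  have hr := eigenAug_rank_one hu hχ hχp hrk 1
  have hev : ∀ (z : A ⊗[R] CartDual.D R A) (a : A), (theta z).ofConv a = TensorProduct.rid R A
      (LinearMap.lTensor A ((Module.Dual.eval R A a) ∘ₗ (CartDual.toDual R A).toLinearMap) z) := by
    intro z a
    induction z using TensorProduct.induction_on with
    | zero => simp
    | add y z hy hz => simp only [map_add, WithConv.ofConv_add, LinearMap.add_apply, hy, hz]
    | tmul b ψ => rw [theta_tmul]; rfl
  have hδid : theta δ = toConv LinearMap.id := by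
    apply WithConv.ofConv_injective
    apply LinearMap.ext
    intro a
    rw [hev, hδ]
    rfl
  have hcomp : theta.comp ϕ = Lam hp := by
    refine (MonoidAlgebra.lift R (WithConv (A →ₗ[R] A))
      (Multiplicative (ZMod p))).symm.injective (MonoidHom.ext fun g => ?_)
    show (theta.comp ϕ) (MonoidAlgebra.of R _ g) = Lam hp (MonoidAlgebra.of R _ g)
    have e : MonoidAlgebra.of R _ g = _root_.OortTate.muT R p ^ (Multiplicative.toAdd g).val := by
      rw [muT_pow, ZMod.natCast_zmod_val]
      rfl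
    rw [e, map_pow, map_pow, AlgHom.comp_apply, hϕ, hδid]
    congr 1
    rw [← pow_one (_root_.OortTate.muT R p), Lam_muT_pow, powConv_one]
    rfl
  have hY : theta (ϕ (_root_.OortTate.ygen R p u χ 1)) = E hp u χ 1 := by
    rw [← Lam_ygen, ← hcomp]
    rfl
  constructor
  · apply le_antisymm
    · rw [Submodule.span_singleton_le_iff_mem]
      obtain ⟨n, x, φ, hφ⟩ := exists_dual_family (R := R)
        (M := _root_.OortTate.eigenAug R A p χ 1)
      have hbij := dual_restrict_eigenAug_bijective (A := A) (χ := χ) hu hp 1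
      choose ψ hψ using fun k => hbij.2 (φ k)
      refine ⟨∑ k, x k ⊗ₜ[R] ψ k, theta_injective ?_⟩
      rw [hY]
      simp only [map_sum, TensorProduct.map_tmul, Submodule.subtype_apply, theta_tmul]
      apply WithConv.ofConv_injective
      apply LinearMap.ext
      intro b
      simp only [WithConv.ofConv_sum, LinearMap.sum_apply, smR_apply, E_apply]
      have hk : ∀ k, (ψ k : CartDual.D R A).ofConv b = φ k (eigenProj hp u χ 1 b) := fun k => by
        rw [dual_eq_comp_E hu hp 1 (ψ k).2, E_apply]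
        have h3 := LinearMap.congr_fun (hψ k) (eigenProj hp u χ 1 b)
        exact h3
      simp only [hk, ← SetLike.val_smul, ← AddSubmonoidClass.coe_finset_sum, hφ]
    · rintro _ ⟨z, rfl⟩
      induction z using TensorProduct.induction_on with
      | zero => rw [map_zero]; exact Submodule.zero_mem _
      | add y z hy hz => rw [map_add]; exact Submodule.add_mem _ hy hz
      | tmul a ψ =>
        refine Submodule.mem_span_singleton.2
          ⟨(ψ : CartDual.D R A).ofConv (a : A), theta_injective ?_⟩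
        rw [map_smul, hY, TensorProduct.map_tmul, Submodule.subtype_apply, Submodule.subtype_apply,
          theta_tmul, smR_eq_smul_E hu hχ hχp hrk hp ψ.2 a.2]
  · intro r hr0
    refine eq_zero_of_smul_eq_zero hr fun a => ?_
    have h := congrArg theta hr0
    rw [map_smul, hY, map_zero] at h
    have h2 := congrArg (fun g : WithConv (A →ₗ[R] A) => g.ofConv (a : A)) h
    simp only [WithConv.ofConv_smul, LinearMap.smul_apply, E_apply, eigenProj_coe hp hu,
      WithConv.ofConv_zero, LinearMap.zero_apply, ← SetLike.val_smul] at h2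
    exact Subtype.ext h2

end Groth.Agent.OortTate
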