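import Mathlib

/-!
Finite projective modules of rank one: dual families and commutation.
-/

universe u v w

open TensorProduct

namespace Groth.Agent.OortTate

variable {R : Type u} [CommRing R] {M : Type v} [AddCommGroup M] [Module R M] [Module.Finite R M]
  [Module.Projective R M]

theorem exists_dual_family : ∃ (n : ℕ) (x : Fin n → M) (φ : Fin n → Module.Dual R M),
    ∀ m, ∑ k, φ k m • x k = m := by
  classical
  obtain ⟨n, f, g, -, -, hfg⟩ := Module.Finite.exists_comp_eq_id_of_projective R M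
  refine ⟨n, fun k => f (Pi.single k 1), fun k => (LinearMap.proj k).comp g, fun m => ?_⟩
  conv_rhs => rw [← LinearMap.id_apply (R := R) (M := M) m, ← hfg, LinearMap.comp_apply,
    pi_eq_sum_univ' (g m), map_sum]
  simp [map_smul]

theorem smul_comm_of_rank_one (hrk : ∀ q : PrimeSpectrum R, Module.rankAtStalk M q = 1)
    (f : Module.Dual R M) (x y : M) : f x • y = f y • x := by
  rw [← sub_eq_zero]
  refine (Module.forall_dual_apply_eq_zero_iff R _).1 fun φ => ?_
  refine eq_zero_of_localization _ fun J hJ => ?_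
  let S := Localization.AtPrime J
  have : Module.Free S (S ⊗[R] M) := Module.free_of_flat_of_isLocalRing
  have h1 : Module.rankAtStalk (S ⊗[R] M) (IsLocalRing.closedPoint S) = 1 := by
    rw [Module.rankAtStalk_baseChange]; exact hrk _
  rw [Module.rankAtStalk_eq_finrank_of_free] at h1
  let e := Module.finBasisOfFinrankEq S (S ⊗[R] M) (show Module.finrank S (S ⊗[R] M) = 1 from h1)
  have key : ∀ z : S ⊗[R] M, z = e.repr z 0 • e 0 := fun z => by
    conv_lhs => rw [← e.sum_repr z, Fin.sum_univ_one]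
  let F : S ⊗[R] M →ₗ[S] S := LinearMap.liftBaseChange S ((Algebra.linearMap R S).comp f)
  let G : S ⊗[R] M →ₗ[S] S := LinearMap.liftBaseChange S ((Algebra.linearMap R S).comp φ)
  have hF : ∀ m, F (1 ⊗ₜ m) = algebraMap R S (f m) := fun m => by simp [F]
  have hG : ∀ m, G (1 ⊗ₜ m) = algebraMap R S (φ m) := fun m => by simp [G]
  rw [map_sub, map_smul, map_smul, smul_eq_mul, smul_eq_mul, map_sub, map_mul, map_mul, ← hF, ← hF,
    ← hG, ← hG, key (1 ⊗ₜ x), key (1 ⊗ₜ y)]
  simp only [map_smul, smul_eq_mul]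
  ring

theorem exists_dual_apply_notMem {K : Type w} [CommRing K] [Algebra R K] {J : Ideal R}
    (hJ : J ≤ RingHom.ker (algebraMap R K)) {z : M} (hz : (1 : K) ⊗ₜ[R] z ≠ 0) :
    ∃ φ : Module.Dual R M, φ z ∉ J := by
  by_contra! h
  obtain ⟨n, x, φ, hφ⟩ := exists_dual_family (R := R) (M := M)
  apply hz
  rw [← hφ z, tmul_sum]
  refine Finset.sum_eq_zero fun k _ => ?_
  rw [tmul_smul, algebra_compatible_smul K (φ k z), RingHom.mem_ker.1 (hJ (h (φ k))), zero_smul]

theorem eq_zero_of_smul_eq_zero (hrk : ∀ q : PrimeSpectrum R, Module.rankAtStalk M q = 1) {r : R}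
    (hr : ∀ m : M, r • m = 0) : r = 0 := by
  let I : Ideal R := ⨆ f : Module.Dual R M, LinearMap.range f
  have hI : I = ⊤ := by
    by_contra hne
    obtain ⟨J, hJ, hle⟩ := Ideal.exists_le_maximal I hne
    let K := R ⧸ J
    let _ : Field K := Ideal.Quotient.field J
    have h1 : Module.finrank K (K ⊗[R] M) = 1 := by
      have h2 : Module.rankAtStalk (K ⊗[R] M) (IsLocalRing.closedPoint K) = 1 := by
        rw [Module.rankAtStalk_baseChange]; exact hrk _
      rwa [Module.rankAtStalk_eq_finrank_of_free] at h2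
    have : Nontrivial (K ⊗[R] M) := Module.nontrivial_of_finrank_eq_succ h1
    obtain ⟨z, hz⟩ := exists_ne (0 : K ⊗[R] M)
    induction z using TensorProduct.induction_on with
    | zero => exact hz rfl
    | add a b ha hb => exact (not_and_or.1 fun hab => hz (by rw [hab.1, hab.2, add_zero])).elim ha hb
    | tmul k m =>
      have hm : (1 : K) ⊗ₜ[R] m ≠ 0 := fun h0 => hz (by
        rw [show k ⊗ₜ[R] m = k • ((1 : K) ⊗ₜ[R] m) by rw [smul_tmul', smul_eq_mul, mul_one], h0,
          smul_zero])
      obtain ⟨φ, hφ⟩ := exists_dual_apply_notMem (K := K) (J := J)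
        (fun a ha => Ideal.Quotient.eq_zero_iff_mem.2 ha) hm
      exact hφ (hle (le_iSup (fun f : Module.Dual R M => LinearMap.range f) φ ⟨m, rfl⟩))
  have h3 : ∀ a ∈ I, r * a = 0 := fun a ha => by
    refine Submodule.iSup_induction _ (motive := fun a => r * a = 0) ha ?_ (mul_zero r) ?_
    · rintro f _ ⟨m, rfl⟩
      rw [← smul_eq_mul, ← map_smul, hr, map_zero]
    · intro a b ha hb
      rw [mul_add, ha, hb, add_zero]
  simpa using h3 1 (by rw [hI]; trivial)

end Groth.Agent.OortTate
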