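import Groth.Agent.OortTate.Killed
import Groth.Agent.OortTate.RankOne
import Mathlib

/-!
The eigenspaces of the augmentation ideal of a Hopf algebra of prime rank are invertible modules.
-/

universe u

open TensorProduct WithConv

namespace Groth.Agent.OortTate

section Basic

variable {R : Type u} [CommRing R] {A : Type u} [CommRing A] [HopfAlgebra R A]
  {p : ℕ} [Fact p.Prime] {χ : (ZMod p)ˣ →* Rˣ}

theorem eigenAug_congr {i j : ℕ} (h : i ≡ j [MOD (p - 1)]) :
    _root_.OortTate.eigenAug R A p χ i = _root_.OortTate.eigenAug R A p χ j := by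
  have e : ∀ m : (ZMod p)ˣ, ((χ m : Rˣ) : R) ^ i = ((χ m : Rˣ) : R) ^ j := fun m => by
    rw [← Nat.mod_add_div i (p - 1), ← Nat.mod_add_div j (p - 1), pow_add, pow_add, pow_mul,
      pow_mul, chi_pow_card, one_pow, one_pow, show i % (p - 1) = j % (p - 1) from h]
  ext f
  simp only [mem_eigenAug, e]

theorem mul_mem_eigenAug {i j : ℕ} {f g : A} (hf : f ∈ _root_.OortTate.eigenAug R A p χ i)
    (hg : g ∈ _root_.OortTate.eigenAug R A p χ j) :
    f * g ∈ _root_.OortTate.eigenAug R A p χ (i + j) := by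
  refine mem_eigenAug.2 ⟨by rw [map_mul, (mem_eigenAug.1 hf).1, zero_mul], fun m => ?_⟩
  rw [map_mul, (mem_eigenAug.1 hf).2, (mem_eigenAug.1 hg).2, smul_mul_smul_comm, ← pow_add]

theorem pow_mem_eigenAug {i t : ℕ} (ht : 1 ≤ t) {f : A}
    (hf : f ∈ _root_.OortTate.eigenAug R A p χ i) :
    f ^ t ∈ _root_.OortTate.eigenAug R A p χ (i * t) := by
  induction t, ht using Nat.le_induction with
  | base => simpa using hf
  | succ t _ ih => rw [pow_succ, Nat.mul_succ]; exact mul_mem_eigenAug ih hf

theorem eigenAug_one_pow_le {t : ℕ} (ht : 1 ≤ t) :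
    _root_.OortTate.eigenAug R A p χ 1 ^ t ≤ _root_.OortTate.eigenAug R A p χ t := by
  induction t, ht using Nat.le_induction with
  | base => rw [pow_one]
  | succ t _ ih =>
    rw [pow_succ, Submodule.mul_le]
    exact fun f hf g hg => mul_mem_eigenAug (ih hf) hg

/-- The representative in `[1, p - 1]` of a class modulo `p - 1`. -/
def rep (p i : ℕ) : ℕ := if i % (p - 1) = 0 then p - 1 else i % (p - 1)

omit [Fact p.Prime] in
theorem rep_spec (hp : 2 ≤ p) (i : ℕ) :
    1 ≤ rep p i ∧ rep p i ≤ p - 1 ∧ rep p i ≡ i [MOD (p - 1)] := by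
  unfold rep
  split_ifs with h
  · exact ⟨by omega, le_rfl, by rw [Nat.ModEq, Nat.mod_self, h]⟩
  · exact ⟨Nat.pos_of_ne_zero h, (Nat.mod_lt _ (by omega)).le, Nat.mod_modEq _ _⟩

end Basic

section Field

variable {K : Type u} [Field K] {A : Type u} [CommRing A] [HopfAlgebra K A] [Module.Finite K A]
  [IsAlgClosed K] {p : ℕ} [Fact p.Prime] {u : K} {χ : (ZMod p)ˣ →* Kˣ}

theorem field_eigen_span (hA : Module.finrank K A = p) (hu : u * ((p - 1 : ℕ) : K) = 1)
    (hχ : ∀ m : (ZMod p)ˣ, m ≠ 1 → IsUnit ((χ m : K) - 1))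
    (hχp : ∀ m : (ZMod p)ˣ,
      ((χ m : Kˣ) : K) - (((m : ZMod p).val : ℕ) : K) ∈ Ideal.span ({(p : K)} : Set K)) :
    ∃ x ∈ _root_.OortTate.eigenAug K A p χ 1, (∀ t, t ≤ p - 1 → x ^ t ≠ 0) ∧
      ∀ i, _root_.OortTate.eigenAug K A p χ i = Submodule.span K {x ^ rep p i} := by
  obtain ⟨x, hx, hxt⟩ := exists_eigen_pow_ne_zero hA hu χ hχp
  refine ⟨x, hx, hxt, fun i => ?_⟩
  have hp2 : 2 ≤ p := (Fact.out : p.Prime).two_le
  have hmem : ∀ i, x ^ rep p i ∈ _root_.OortTate.eigenAug K A p χ i := fun i => by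
    rw [← eigenAug_congr (rep_spec hp2 i).2.2]
    simpa using pow_mem_eigenAug (rep_spec hp2 i).1 hx
  let V := LinearMap.ker (Bialgebra.counitAlgHom K A).toLinearMap
  let w : Fin (p - 1) → V := fun j => ⟨x ^ rep p j, (mem_eigenAug.1 (hmem j)).1⟩
  have hli : LinearIndependent K w := by
    refine LinearIndependent.of_comp V.subtype ?_
    exact (iSupIndep_eigenAug hu hχ).linearIndependent _ (fun j => hmem (j : ℕ))
      (fun j => hxt _ (rep_spec hp2 j).2.1)
  have hdim : Module.finrank K V = p - 1 := by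
    have hsurj : LinearMap.range (Bialgebra.counitAlgHom K A).toLinearMap = ⊤ :=
      LinearMap.range_eq_top.2 fun c => ⟨algebraMap K A c, by simp⟩
    have := (Bialgebra.counitAlgHom K A).toLinearMap.finrank_range_add_finrank_ker
    rw [hsurj, finrank_top, Module.finrank_self, hA] at this
    show Module.finrank K (LinearMap.ker _) = p - 1
    omega
  have : Nonempty (Fin (p - 1)) := ⟨⟨0, by omega⟩⟩
  let b := basisOfLinearIndependentOfCardEqFinrank hli (by rw [Fintype.card_fin, hdim])
  refine le_antisymm (fun f hf => ?_) ((Submodule.span_singleton_le_iff_mem _ _).2 (hmem i))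
  have hf0 : f ∈ V := (mem_eigenAug.1 hf).1
  have h := congrArg (fun g : V => _root_.OortTate.proj K A p u χ i (g : A)) (b.sum_repr ⟨f, hf0⟩)
  simp only [b, coe_basisOfLinearIndependentOfCardEqFinrank, AddSubmonoidClass.coe_finset_sum,
    SetLike.val_smul, map_sum, map_smul] at h
  rw [proj_of_eigen hu (mem_eigenAug.1 hf).2 rfl] at h
  rw [← h]
  refine Submodule.sum_mem _ fun j _ => Submodule.smul_mem _ _ ?_
  by_cases hj : (j : ℕ) ≡ i [MOD (p - 1)]
  · rw [proj_of_eigen hu (mem_eigenAug.1 (hmem j)).2 hj]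
    have : rep p j = rep p i := by
      unfold rep; rw [show (j : ℕ) % (p - 1) = i % (p - 1) from hj]
    show x ^ rep p j ∈ _
    rw [this]
    exact Submodule.mem_span_singleton_self _
  · rw [proj_of_eigen_ne hχ (mem_eigenAug.1 (hmem j)).2 hj]
    exact Submodule.zero_mem _

end Field

section Ring

variable {R : Type u} [CommRing R] {A : Type u} [CommRing A] [HopfAlgebra R A]
  [Module.Finite R A] [Module.Projective R A] {p : ℕ} [Fact p.Prime] {u : R}
  {χ : (ZMod p)ˣ →* Rˣ}

/-- The projection of `A` onto an eigenspace. -/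
noncomputable def eigenProj (hp : toConv (AlgHom.id R A) ^ p = 1) (u : R) (χ : (ZMod p)ˣ →* Rˣ)
    (i : ℕ) : A →ₗ[R] _root_.OortTate.eigenAug R A p χ i :=
  ((_root_.OortTate.proj R A p u χ i).comp
    (LinearMap.id - (Bialgebra.counitAlgHom R A).toLinearMap.smulRight (1 : A))).codRestrict _
    fun a => proj_mem hp i (by
      simp only [LinearMap.sub_apply, LinearMap.id_apply, LinearMap.smulRight_apply,
        AlgHom.toLinearMap_apply, map_sub, map_smul, map_one, smul_eq_mul, mul_one, sub_self])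

omit [Module.Finite R A] [Module.Projective R A] in
theorem coe_eigenProj (hp : toConv (AlgHom.id R A) ^ p = 1) (i : ℕ) (a : A) :
    (eigenProj hp u χ i a : A) =
      _root_.OortTate.proj R A p u χ i (a - Bialgebra.counitAlgHom R A a • (1 : A)) := rfl

omit [Module.Finite R A] [Module.Projective R A] in
theorem eigenProj_coe (hp : toConv (AlgHom.id R A) ^ p = 1) (hu : u * ((p - 1 : ℕ) : R) = 1)
    (i : ℕ) (f : _root_.OortTate.eigenAug R A p χ i) :
    eigenProj hp u χ i (f : A) = f := by
  apply Subtype.ext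
  rw [coe_eigenProj, (mem_eigenAug.1 f.2).1, zero_smul, sub_zero]
  exact proj_of_eigen hu (mem_eigenAug.1 f.2).2 rfl

theorem eigenAug_finite_projective (hp : toConv (AlgHom.id R A) ^ p = 1)
    (hu : u * ((p - 1 : ℕ) : R) = 1) (i : ℕ) :
    Module.Finite R (_root_.OortTate.eigenAug R A p χ i) ∧
      Module.Projective R (_root_.OortTate.eigenAug R A p χ i) :=
  ⟨Module.Finite.of_surjective (eigenProj hp u χ i) fun f => ⟨f, eigenProj_coe hp hu i f⟩,
    Module.Projective.of_split (_root_.OortTate.eigenAug R A p χ i).subtype (eigenProj hp u χ i)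
      (LinearMap.ext fun f => eigenProj_coe hp hu i f)⟩

variable (K : Type u) [Field K] [Algebra R K]

/-- The character over an algebra. -/
noncomputable def charMap (χ : (ZMod p)ˣ →* Rˣ) : (ZMod p)ˣ →* Kˣ :=
  (Units.map (algebraMap R K).toMonoidHom).comp χ

theorem charMap_apply (m : (ZMod p)ˣ) :
    ((charMap K χ m : Kˣ) : K) = algebraMap R K ((χ m : Rˣ) : R) := rfl

theorem proj_baseChange (i : ℕ) :
    _root_.OortTate.proj K (K ⊗[R] A) p (algebraMap R K u) (charMap K χ) i =
      (_root_.OortTate.proj R A p u χ i).baseChange K := by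
  apply LinearMap.restrictScalars_injective R
  apply TensorProduct.ext'
  intro s a
  have key : ∀ n, SGA3b.powConv K (K ⊗[R] A) n ((1 : K) ⊗ₜ[R] a) =
      (1 : K) ⊗ₜ[R] SGA3b.powConv R A n a := fun n => powConv_baseChange_apply (R := R) (A := A) K n a
  have e : s ⊗ₜ[R] a = s • ((1 : K) ⊗ₜ[R] a) := by rw [smul_tmul', smul_eq_mul, mul_one]
  simp only [LinearMap.restrictScalars_apply, LinearMap.baseChange_tmul, proj_apply]
  rw [e]
  simp only [map_smul, key, charMap_apply, ← map_pow, algebraMap_smul]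
  simp only [smul_tmul', smul_eq_mul, mul_one, tmul_sum, tmul_smul]

theorem field_hyps (hu : u * ((p - 1 : ℕ) : R) = 1)
    (hχ : ∀ m : (ZMod p)ˣ, m ≠ 1 → IsUnit ((χ m : R) - 1))
    (hχp : ∀ m : (ZMod p)ˣ,
      ((χ m : Rˣ) : R) - (((m : ZMod p).val : ℕ) : R) ∈ Ideal.span ({(p : R)} : Set R)) :
    algebraMap R K u * ((p - 1 : ℕ) : K) = 1 ∧
      (∀ m : (ZMod p)ˣ, m ≠ 1 → IsUnit ((charMap K χ m : K) - 1)) ∧
      ∀ m : (ZMod p)ˣ, ((charMap K χ m : Kˣ) : K) - (((m : ZMod p).val : ℕ) : K) ∈
        Ideal.span ({(p : K)} : Set K) := by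
  refine ⟨by rw [← map_natCast (algebraMap R K), ← map_mul, hu, map_one], fun m hm => ?_, fun m => ?_⟩
  · rw [charMap_apply, ← map_one (algebraMap R K), ← map_sub]
    exact (hχ m hm).map _
  · obtain ⟨r, hr⟩ := Ideal.mem_span_singleton'.1 (hχp m)
    refine Ideal.mem_span_singleton'.2 ⟨algebraMap R K r, ?_⟩
    rw [charMap_apply, ← map_natCast (algebraMap R K), ← map_natCast (algebraMap R K), ← map_mul,
      hr, map_sub]

theorem range_baseChange_eq (hp : toConv (AlgHom.id R A) ^ p = 1)
    (hpK : toConv (AlgHom.id K (K ⊗[R] A)) ^ p = 1)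
    (hu : u * ((p - 1 : ℕ) : R) = 1) (i : ℕ) :
    LinearMap.range ((_root_.OortTate.eigenAug R A p χ i).subtype.baseChange K) =
      _root_.OortTate.eigenAug K (K ⊗[R] A) p (charMap K χ) i := by
  have huK : algebraMap R K u * ((p - 1 : ℕ) : K) = 1 := by
    rw [← map_natCast (algebraMap R K), ← map_mul, hu, map_one]
  let π := LinearMap.id - (Bialgebra.counitAlgHom R A).toLinearMap.smulRight (1 : A)
  have hπ : π.baseChange K = LinearMap.id -
      (Bialgebra.counitAlgHom K (K ⊗[R] A)).toLinearMap.smulRight (1 : K ⊗[R] A) := by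
    apply LinearMap.restrictScalars_injective R
    apply TensorProduct.ext'
    intro s a
    simp [π, tmul_sub, Algebra.TensorProduct.one_def, smul_tmul']
  have hP : (_root_.OortTate.eigenAug R A p χ i).subtype.baseChange K ∘ₗ
      (eigenProj hp u χ i).baseChange K =
        _root_.OortTate.proj K (K ⊗[R] A) p (algebraMap R K u) (charMap K χ) i ∘ₗ
          (π.baseChange K) := by
    rw [proj_baseChange, ← LinearMap.baseChange_comp, ← LinearMap.baseChange_comp]
    rfl
  have hsurj : Function.Surjective ((eigenProj hp u χ i).baseChange K) :=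
    LinearMap.lTensor_surjective _ fun f => ⟨f, eigenProj_coe hp hu i f⟩
  rw [← LinearMap.range_comp_of_range_eq_top _ (LinearMap.range_eq_top.2 hsurj), hP, hπ]
  apply le_antisymm
  · rintro _ ⟨z, rfl⟩
    refine proj_mem hpK i ?_
    simp only [LinearMap.sub_apply, LinearMap.id_apply, LinearMap.smulRight_apply,
      AlgHom.toLinearMap_apply, map_sub, map_smul, map_one, smul_eq_mul, mul_one, sub_self]
  · intro f hf
    refine ⟨f, ?_⟩
    simp only [LinearMap.comp_apply, LinearMap.sub_apply, LinearMap.id_apply,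
      LinearMap.smulRight_apply, AlgHom.toLinearMap_apply, (mem_eigenAug.1 hf).1, zero_smul,
      sub_zero]
    exact proj_of_eigen huK (mem_eigenAug.1 hf).2 rfl

/-- The geometric fibre of the eigenspaces. -/
theorem fibre_data [IsAlgClosed K] (hu : u * ((p - 1 : ℕ) : R) = 1)
    (hχ : ∀ m : (ZMod p)ˣ, m ≠ 1 → IsUnit ((χ m : R) - 1))
    (hχp : ∀ m : (ZMod p)ˣ,
      ((χ m : Rˣ) : R) - (((m : ZMod p).val : ℕ) : R) ∈ Ideal.span ({(p : R)} : Set R))
    (hrk : ∀ q : PrimeSpectrum R, Module.rankAtStalk A q = p) :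
    (∀ i, Module.finrank K (K ⊗[R] _root_.OortTate.eigenAug R A p χ i) = 1) ∧
      ∃ y ∈ _root_.OortTate.eigenAug R A p χ 1,
        ∀ t, t ≤ p - 1 → ((1 : K) ⊗ₜ[R] y : K ⊗[R] A) ^ t ≠ 0 := by
  have hco := isCocomm_of_rank hrk
  have hp := convPow_rank_eq_one hrk
  obtain ⟨huK, hχK, hχpK⟩ := field_hyps K hu hχ hχp
  have hrkK : ∀ q : PrimeSpectrum K, Module.rankAtStalk (K ⊗[R] A) q = p := fun q => by
    rw [Module.rankAtStalk_baseChange]; exact hrk _
  have hcoK := isCocomm_of_rank hrkK
  have hpK := convPow_rank_eq_one hrkK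
  obtain ⟨x, hx, hxt, hspan⟩ := field_eigen_span (free_finrank_baseChange hrk K).2 huK hχK hχpK
  constructor
  · intro i
    have hinj : Function.Injective ((_root_.OortTate.eigenAug R A p χ i).subtype.baseChange K) := by
      refine Function.LeftInverse.injective (g := (eigenProj hp u χ i).baseChange K) fun z => ?_
      have e : eigenProj hp u χ i ∘ₗ (_root_.OortTate.eigenAug R A p χ i).subtype = LinearMap.id :=
        LinearMap.ext fun f => eigenProj_coe hp hu i f
      rw [← LinearMap.comp_apply, ← LinearMap.baseChange_comp, e, LinearMap.baseChange_id]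
      rfl
    rw [← LinearMap.finrank_range_of_inj hinj, range_baseChange_eq K hp hpK hu, hspan]
    exact finrank_span_singleton (hxt _ (rep_spec (Fact.out : p.Prime).two_le i).2.1)
  · by_contra! h
    have hbot : LinearMap.range ((_root_.OortTate.eigenAug R A p χ 1).subtype.baseChange K) ≤ ⊥ := by
      rintro _ ⟨z, rfl⟩
      induction z using TensorProduct.induction_on with
      | zero => simp
      | add a b ha hb => rw [map_add]; exact Submodule.add_mem _ ha hb
      | tmul s f =>
        obtain ⟨t, ht, h0⟩ := h f f.2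
        have hf : (1 : K) ⊗ₜ[R] (f : A) ∈
            _root_.OortTate.eigenAug K (K ⊗[R] A) p (charMap K χ) 1 := by
          rw [← range_baseChange_eq K hp hpK hu]
          exact ⟨(1 : K) ⊗ₜ f, by simp⟩
        rw [hspan] at hf
        obtain ⟨c, hc⟩ := Submodule.mem_span_singleton.1 hf
        have hrep : rep p 1 ≤ p - 1 := (rep_spec (Fact.out : p.Prime).two_le 1).2.1
        have hc0 : c = 0 := by
          rw [← hc, smul_pow, ← pow_mul, smul_eq_zero] at h0
          rcases h0 with h0 | h0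
          · exact pow_eq_zero_iff (by rintro rfl; simp at h0) |>.1 h0
          · exfalso
            by_cases h2 : p - 1 = 1
            · exact hxt _ (by
                have h3 : rep p 1 = 1 := by
                  have := (rep_spec (Fact.out : p.Prime).two_le 1).1; omega
                rw [h3, one_mul]; exact ht) h0
            · have h3 : rep p 1 = 1 := by
                have : 1 % (p - 1) = 1 := Nat.mod_eq_of_lt (by
                  have := (Fact.out : p.Prime).two_le; omega)
                simp [rep, this]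
              rw [h3, one_mul] at h0
              exact hxt _ ht h0
        rw [Submodule.mem_bot, LinearMap.baseChange_tmul, Submodule.subtype_apply,
          show s ⊗ₜ[R] (f : A) = s • ((1 : K) ⊗ₜ[R] (f : A)) by rw [smul_tmul', smul_eq_mul, mul_one],
          ← hc, hc0, zero_smul, smul_zero]
    rw [range_baseChange_eq K hp hpK hu] at hbot
    have := hbot hx
    rw [Submodule.mem_bot] at this
    exact hxt 1 (by have := (Fact.out : p.Prime).two_le; omega) (by rw [pow_one]; exact this)

end Ring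

section Main

variable {R : Type u} [CommRing R] {A : Type u} [CommRing A] [HopfAlgebra R A]
  [Module.Finite R A] [Module.Projective R A] {p : ℕ} [Fact p.Prime] {u : R}
  {χ : (ZMod p)ˣ →* Rˣ}

theorem eigenAug_rank_one (hu : u * ((p - 1 : ℕ) : R) = 1)
    (hχ : ∀ m : (ZMod p)ˣ, m ≠ 1 → IsUnit ((χ m : R) - 1))
    (hχp : ∀ m : (ZMod p)ˣ,
      ((χ m : Rˣ) : R) - (((m : ZMod p).val : ℕ) : R) ∈ Ideal.span ({(p : R)} : Set R))
    (hrk : ∀ q : PrimeSpectrum R, Module.rankAtStalk A q = p) (i : ℕ)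
    (q : PrimeSpectrum R) :
    Module.rankAtStalk (↥(_root_.OortTate.eigenAug R A p χ i)) q = 1 := by
  have hco := isCocomm_of_rank hrk
  have hp := convPow_rank_eq_one hrk
  obtain ⟨hfin, hproj⟩ := eigenAug_finite_projective (χ := χ) hp hu i
  let K := AlgebraicClosure (FractionRing (R ⧸ q.asIdeal))
  have h := (fibre_data K hu hχ hχp hrk).1 i
  have hq : (IsLocalRing.closedPoint K).comap (algebraMap R K) = q := by
    apply PrimeSpectrum.ext
    show Ideal.comap (algebraMap R K) (IsLocalRing.maximalIdeal K) = _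
    rw [IsLocalRing.maximalIdeal_eq_bot, IsScalarTower.algebraMap_eq R (R ⧸ q.asIdeal) K,
      ← Ideal.comap_comap, ← RingHom.ker_eq_comap_bot,
      (RingHom.injective_iff_ker_eq_bot (algebraMap (R ⧸ q.asIdeal) K)).1 (by
        rw [IsScalarTower.algebraMap_eq (R ⧸ q.asIdeal) (FractionRing (R ⧸ q.asIdeal)) K]
        exact (algebraMap (FractionRing (R ⧸ q.asIdeal)) K).injective.comp
          (IsFractionRing.injective _ _)),
      ← RingHom.ker_eq_comap_bot, Ideal.Quotient.algebraMap_eq, Ideal.mk_ker]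
  rw [← hq, ← Module.rankAtStalk_baseChange, Module.rankAtStalk_eq_finrank_of_free]
  exact h

theorem eigenAug_one_pow_eq (hu : u * ((p - 1 : ℕ) : R) = 1)
    (hχ : ∀ m : (ZMod p)ˣ, m ≠ 1 → IsUnit ((χ m : R) - 1))
    (hχp : ∀ m : (ZMod p)ˣ,
      ((χ m : Rˣ) : R) - (((m : ZMod p).val : ℕ) : R) ∈ Ideal.span ({(p : R)} : Set R))
    (hrk : ∀ q : PrimeSpectrum R, Module.rankAtStalk A q = p) {t : ℕ} (ht : 1 ≤ t)
    (ht' : t ≤ p - 1) :
    _root_.OortTate.eigenAug R A p χ 1 ^ t = _root_.OortTate.eigenAug R A p χ t := by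
  refine le_antisymm (eigenAug_one_pow_le ht) ?_
  have hco := isCocomm_of_rank hrk
  have hp := convPow_rank_eq_one hrk
  obtain ⟨hfin, hproj⟩ := eigenAug_finite_projective (χ := χ) hp hu t
  have hr1 := eigenAug_rank_one hu hχ hχp hrk t
  intro v hv
  let N := _root_.OortTate.eigenAug R A p χ 1 ^ t
  let I : Ideal R := Submodule.comap (LinearMap.toSpanSingleton R A v) N
  suffices hI : I = ⊤ by
    have h1 : (1 : R) ∈ I := hI ▸ Submodule.mem_top
    simpa [I] using h1
  by_contra hne
  obtain ⟨J, hJ, hle⟩ := Ideal.exists_le_maximal I hne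
  let K := AlgebraicClosure (FractionRing (R ⧸ J))
  obtain ⟨y, hy, hyt⟩ := (fibre_data K hu hχ hχp hrk).2
  let z : _root_.OortTate.eigenAug R A p χ t :=
    ⟨y ^ t, by simpa using pow_mem_eigenAug ht hy⟩
  have hJK : J ≤ RingHom.ker (algebraMap R K) := fun a ha => by
    rw [RingHom.mem_ker, IsScalarTower.algebraMap_apply R (R ⧸ J) K, Ideal.Quotient.algebraMap_eq,
      Ideal.Quotient.eq_zero_iff_mem.2 ha, map_zero]
  have hz : (1 : K) ⊗ₜ[R] z ≠ 0 := fun h0 => by
    apply hyt t ht'
    have := congrArg ((_root_.OortTate.eigenAug R A p χ t).subtype.baseChange K) h0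
    rw [map_zero, LinearMap.baseChange_tmul] at this
    rw [Algebra.TensorProduct.tmul_pow, one_pow]
    exact this
  obtain ⟨φ, hφ⟩ := exists_dual_apply_notMem hJK hz
  refine hφ (hle ?_)
  show φ z • v ∈ N
  have := congrArg Subtype.val (smul_comm_of_rank_one hr1 φ z ⟨v, hv⟩)
  simp only [SetLike.val_smul] at this
  rw [this]
  exact Submodule.smul_mem _ _ (Submodule.pow_mem_pow _ hy t)

end Main

end Groth.Agent.OortTate
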